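import Cfsg.Agent.S1894
import Cfsg.Prelude.Def_Transfer
import Mathlib.GroupTheory.Sylow
import Mathlib.GroupTheory.Perm.Basic
import Mathlib.GroupTheory.GroupAction.Quotient

/-!
# Two-groups without normal abelian subgroups of rank three, with odd automorphisms

Elementary tools: odd automorphisms on four-groups, generators of the form `x⁻¹ φ x`, the extension
of normal elementary abelian subgroups.
-/

set_option autoImplicit false

namespace Cfsg.Lib.TwoGroup.NoScn

open scoped commutatorElement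

variable {X : Type*} [Group X]

/-- The hypotheses: a finite 2-group, an odd automorphism group `A` with `[X,A] = X`, and no normal
elementary abelian subgroup of order at least eight. -/
structure Setup (A : Subgroup (MulAut X)) : Prop where
  two : IsPGroup 2 X
  odd : Odd (Nat.card A)
  gen : Subgroup.closure {g : X | ∃ φ ∈ A, ∃ x : X, g = x⁻¹ * φ x} = ⊤
  small : ∀ E : Subgroup X, E.Normal → IsMulCommutative E → (∀ e ∈ E, e * e = 1) → Nat.card E < 8

theorem setup_of [Finite X] (hX : IsPGroup 2 X)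
    (hscn : ¬ ∃ A : Subgroup X, A.Normal ∧ Subgroup.centralizer (A : Set X) = A ∧
      ∃ E : Subgroup X, E ≤ A ∧ Cfsg.IsElementaryAbelian 2 E ∧ Nat.card E = 8)
    (A : Subgroup (MulAut X)) (hA : Odd (Nat.card A))
    (hXA : Subgroup.closure {g : X | ∃ φ ∈ A, ∃ x : X, g = x⁻¹ * φ x} = ⊤) : Setup A := by
  haveI : Fact (Nat.Prime 2) := ⟨Nat.prime_two⟩
  refine ⟨hX, hA, hXA, fun E hEn hEc hEe => ?_⟩
  by_contra h8
  haveI := hEn
  obtain ⟨C, hCn, hEC, -, -, hC⟩ := Cfsg.Agent.S1894.result hX ⊤ E le_top hEc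
  simp only [top_inf_eq] at hC
  obtain ⟨n, hn⟩ := IsPGroup.iff_card.1 (hX.to_subgroup E)
  have hn3 : 3 ≤ n := by
    by_contra h
    have : 2 ^ n ≤ 2 ^ 2 := Nat.pow_le_pow_right (by norm_num) (by omega)
    omega
  obtain ⟨F, hF⟩ := Sylow.exists_subgroup_card_pow_prime 2 (G := E) (n := 3)
    (by rw [hn]; exact pow_dvd_pow 2 hn3)
  refine hscn ⟨C, hCn, hC, F.map E.subtype, (Subgroup.map_subtype_le F).trans hEC, ⟨?_, ?_⟩, ?_⟩
  · refine ⟨⟨fun a b => ?_⟩⟩
    have ha : (a : X) ∈ E := Subgroup.map_subtype_le F a.2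
    have hb : (b : X) ∈ E := Subgroup.map_subtype_le F b.2
    exact Subtype.ext (congrArg Subtype.val (hEc.is_comm.comm ⟨_, ha⟩ ⟨_, hb⟩) : _)
  · intro a ha
    rw [pow_two]
    exact hEe a (Subgroup.map_subtype_le F ha)
  · rw [Subgroup.card_map_of_injective E.subtype_injective, hF]; norm_num

variable {A : Subgroup (MulAut X)}

theorem odd_orderOf (h : Setup A) {φ : MulAut X} (hφ : φ ∈ A) : Odd (orderOf φ) :=
  h.odd.of_dvd_nat (A.orderOf_dvd_natCard hφ)

theorem fix_of_sq (h : Setup A) {φ : MulAut X} (hφ : φ ∈ A) {x : X} (hx : φ (φ x) = x) : φ x = x := by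
  obtain ⟨k, hk⟩ := odd_orderOf h hφ
  have h1 : ∀ n : ℕ, ((φ ^ 2) ^ n) x = x := by
    intro n
    induction n with
    | zero => rfl
    | succ n ih => rw [pow_succ, MulAut.mul_apply, show (φ ^ 2) x = x from by rw [pow_two]; exact hx, ih]
  have h2 : (φ ^ orderOf φ) x = x := by rw [pow_orderOf_eq_one]; rfl
  rw [hk, pow_succ', MulAut.mul_apply, pow_mul, h1] at h2
  exact h2

/-- A homomorphism invariant under `A` is trivial. -/
theorem eq_one_of_invariant (h : Setup A) {M : Type*} [Group M] (f : X →* M)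
    (hf : ∀ φ ∈ A, ∀ x, f (φ x) = f x) (x : X) : f x = 1 := by
  have : (⊤ : Subgroup X) ≤ f.ker := by
    rw [← h.gen, Subgroup.closure_le]
    rintro g ⟨φ, hφ, y, rfl⟩
    show f (y⁻¹ * φ y) = 1
    rw [map_mul, map_inv, hf φ hφ, inv_mul_cancel]
  exact this (Subgroup.mem_top x)

/-- Averaging: the product over `A` of the images is trivial. -/
theorem prod_eq_one (h : Setup A) [Fintype A] {M : Type*} [CommGroup M] (f : X →* M) (x : X) :
    ∏ φ : A, f ((φ : MulAut X) x) = 1 := by
  let g : X →* M :=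
    { toFun := fun y => ∏ φ : A, f ((φ : MulAut X) y)
      map_one' := by simp
      map_mul' := fun y z => by simp [Finset.prod_mul_distrib] }
  refine eq_one_of_invariant h g (fun ψ hψ y => ?_) x
  exact Fintype.prod_equiv (Equiv.mulRight (⟨ψ, hψ⟩ : A)) _ _ fun φ => rfl

/-- A normal abelian subgroup fixed pointwise by `A` is central. -/
theorem le_center_of_fixed (h : Setup A) (B : Subgroup X) [hBn : B.Normal]
    (hfix : ∀ φ ∈ A, ∀ b ∈ B, φ b = b) : B ≤ Subgroup.center X := by
  intro b hb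
  rw [Subgroup.mem_center_iff]
  intro g
  have : (⊤ : Subgroup X) ≤ Subgroup.centralizer ({b} : Set X) := by
    rw [← h.gen, Subgroup.closure_le]
    rintro _ ⟨φ, hφ, x, rfl⟩
    refine Subgroup.mem_centralizer_singleton_iff.2 ?_
    have e : φ (x * b * x⁻¹) = x * b * x⁻¹ := hfix φ hφ _ (hBn.conj_mem b hb x)
    rw [map_mul, map_mul, hfix φ hφ b hb, map_inv] at e
    calc x⁻¹ * φ x * b = x⁻¹ * (φ x * b * (φ x)⁻¹) * φ x := by group
      _ = x⁻¹ * (x * b * x⁻¹) * φ x := by rw [e]
      _ = b * (x⁻¹ * φ x) := by group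
  exact Subgroup.mem_centralizer_singleton_iff.1 (this (Subgroup.mem_top g))

/-- `ψ` permutes the three involutions of the four-group `O` cyclically. -/
structure Rot (A : Subgroup (MulAut X)) (O : Subgroup X) (ψ : MulAut X) : Prop where
  mem : ψ ∈ A
  card : Nat.card O = 4
  sq : ∀ o ∈ O, o * o = 1
  inv : ∀ φ ∈ A, ∀ o ∈ O, φ o ∈ O
  moves : ∃ o ∈ O, ψ o ≠ o

theorem eq_cases [Finite X] {O : Subgroup X} (hc : Nat.card O = 4) {a b : X} (ha : a ∈ O) (hb : b ∈ O)
    (ha1 : a ≠ 1) (hb1 : b ≠ 1) (hab : a ≠ b) (hsq : ∀ o ∈ O, o * o = 1) {x : X} (hx : x ∈ O) :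
    x = 1 ∨ x = a ∨ x = b ∨ x = a * b := by
  classical
  by_contra hcon
  push Not at hcon
  let s : Finset X := {1, a, b, a * b, x}
  have hab1 : a * b ≠ 1 := fun e => hab (mul_right_cancel (b := b) (by rw [e, hsq b hb]))
  have hs : s.card = 5 := by
    simp only [s]
    rw [Finset.card_insert_of_notMem, Finset.card_insert_of_notMem, Finset.card_insert_of_notMem,
      Finset.card_pair (fun e => hcon.2.2.2 e.symm)]
    · simp only [Finset.mem_insert, Finset.mem_singleton, not_or]
      exact ⟨fun e => ha1 (by simpa using e), fun e => hcon.2.2.1 e.symm⟩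
    · simp only [Finset.mem_insert, Finset.mem_singleton, not_or]
      exact ⟨hab, fun e => hb1 (by simpa using e), fun e => hcon.2.1 e.symm⟩
    · simp only [Finset.mem_insert, Finset.mem_singleton, not_or]
      exact ⟨ha1.symm, hb1.symm, hab1.symm, fun e => hcon.1 e.symm⟩
  have hle : (s : Set X) ⊆ (O : Set X) := by
    intro y hy
    simp only [s, Finset.coe_insert, Finset.coe_singleton, Set.mem_insert_iff, Set.mem_singleton_iff] at hy
    rcases hy with rfl | rfl | rfl | rfl | rfl
    exacts [one_mem O, ha, hb, mul_mem ha hb, hx]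
  have := Set.ncard_le_ncard hle (Set.toFinite _)
  rw [Set.ncard_coe_finset, hs, ← Nat.card_coe_set_eq] at this
  change 5 ≤ Nat.card O at this
  omega

namespace Rot

variable [Finite X] {O : Subgroup X} {ψ : MulAut X}

theorem fix_free (r : Rot A O ψ) (h : Setup A) {o : X} (ho : o ∈ O) (he : ψ o = o) : o = 1 := by
  by_contra ho1
  obtain ⟨p, hp, hpm⟩ := r.moves
  have hp1 : p ≠ 1 := fun e => hpm (by rw [e, map_one])
  have hop : o ≠ p := fun e => hpm (e ▸ he)
  rcases eq_cases r.card ho hp ho1 hp1 hop r.sq (r.inv ψ r.mem p hp) with e | e | e | e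
  · exact hp1 (ψ.injective (e.trans (map_one ψ).symm))
  · exact hop (ψ.injective (he.trans e.symm))
  · exact hpm e
  · refine hpm (fix_of_sq h r.mem ?_)
    rw [e, map_mul, he, e, ← mul_assoc, r.sq o ho, one_mul]

theorem ne₁ (r : Rot A O ψ) (h : Setup A) {o : X} (ho : o ∈ O) (ho1 : o ≠ 1) : ψ o ≠ o :=
  fun e => ho1 (r.fix_free h ho e)

theorem ne₂ (r : Rot A O ψ) (h : Setup A) {o : X} (ho : o ∈ O) (ho1 : o ≠ 1) : ψ (ψ o) ≠ o :=
  fun e => r.ne₁ h ho ho1 (fix_of_sq h r.mem e)

theorem psi_psi (r : Rot A O ψ) (h : Setup A) {o : X} (ho : o ∈ O) : ψ (ψ o) = o * ψ o := by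
  by_cases ho1 : o = 1
  · simp [ho1]
  have h1 := r.inv ψ r.mem o ho
  have hne : ψ o ≠ 1 := fun e => ho1 (ψ.injective (e.trans (map_one ψ).symm))
  rcases eq_cases r.card ho h1 ho1 hne (r.ne₁ h ho ho1).symm r.sq (r.inv ψ r.mem _ h1) with
    e | e | e | e
  · exact absurd (ψ.injective (e.trans (map_one ψ).symm)) hne
  · exact absurd e (r.ne₂ h ho ho1)
  · exact absurd e (r.ne₁ h h1 hne)
  · exact e

theorem cases (r : Rot A O ψ) (h : Setup A) {o p : X} (ho : o ∈ O) (ho1 : o ≠ 1) (hp : p ∈ O) :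
    p = 1 ∨ p = o ∨ p = ψ o ∨ p = ψ (ψ o) := by
  rw [r.psi_psi h ho]
  exact eq_cases r.card ho (r.inv ψ r.mem o ho) ho1
    (fun e => ho1 (ψ.injective (e.trans (map_one ψ).symm))) (r.ne₁ h ho ho1).symm r.sq hp

theorem cube (r : Rot A O ψ) (h : Setup A) {o : X} (ho : o ∈ O) : ψ (ψ (ψ o)) = o := by
  rw [r.psi_psi h ho, map_mul, r.psi_psi h ho, ← mul_assoc]
  have hc : ψ o * o = o * ψ o := by
    have h1 := r.sq _ (mul_mem ho (r.inv ψ r.mem o ho))
    calc ψ o * o = (o * o) * (ψ o * o) * (ψ o * ψ o) := by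
          rw [r.sq o ho, r.sq _ (r.inv ψ r.mem o ho)]; simp
      _ = o * ((o * ψ o) * (o * ψ o)) * ψ o := by simp only [mul_assoc]
      _ = o * ψ o := by rw [h1, mul_one]
  rw [hc, mul_assoc, r.sq _ (r.inv ψ r.mem o ho), mul_one]

/-- Every element of `A` acts on `O` as a power of `ψ`. -/
theorem trichotomy (r : Rot A O ψ) (h : Setup A) {φ : MulAut X} (hφ : φ ∈ A) :
    (∀ o ∈ O, φ o = o) ∨ (∀ o ∈ O, φ o = ψ o) ∨ (∀ o ∈ O, φ o = ψ (ψ o)) := by
  obtain ⟨a, ha, ham⟩ := r.moves
  have ha1 : a ≠ 1 := fun e => ham (by rw [e, map_one])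
  have key : ∀ χ ∈ A, χ a = a → ∀ o ∈ O, χ o = o := by
    intro χ hχ he o ho
    by_contra hne
    exact ha1 (Rot.fix_free ⟨hχ, r.card, r.sq, r.inv, o, ho, hne⟩ h ha he)
  rcases r.cases h ha ha1 (r.inv φ hφ a ha) with e | e | e | e
  · exact absurd (φ.injective (e.trans (map_one φ).symm)) ha1
  · exact Or.inl (key φ hφ e)
  · refine Or.inr (Or.inl fun o ho => ?_)
    have := key (ψ⁻¹ * φ) (mul_mem (inv_mem r.mem) hφ) (by
      rw [MulAut.mul_apply, e, MulAut.inv_apply_self]) o ho
    rw [MulAut.mul_apply] at this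
    calc φ o = ψ (ψ⁻¹ (φ o)) := (MulAut.apply_inv_self X ψ (φ o)).symm
      _ = ψ o := by rw [this]
  · refine Or.inr (Or.inr fun o ho => ?_)
    have := key (ψ⁻¹ * ψ⁻¹ * φ) (mul_mem (mul_mem (inv_mem r.mem) (inv_mem r.mem)) hφ) (by
      rw [MulAut.mul_apply, MulAut.mul_apply, e, MulAut.inv_apply_self, MulAut.inv_apply_self]) o ho
    rw [MulAut.mul_apply, MulAut.mul_apply] at this
    calc φ o = ψ (ψ (ψ⁻¹ (ψ⁻¹ (φ o)))) := by rw [MulAut.apply_inv_self, MulAut.apply_inv_self]
      _ = ψ (ψ o) := by rw [this]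

end Rot

/-- Adjoining an involution to a normal elementary abelian subgroup. -/
theorem extend [Finite X] (N : Subgroup X) [hN : N.Normal] (hsq : ∀ n ∈ N, n * n = 1) {i : X}
    (hi : i * i = 1) (hiN : i ∉ N) (hcomm : ∀ n ∈ N, i * n = n * i)
    (hconj : ∀ g : X, g * i * g⁻¹ * i⁻¹ ∈ N) :
    ∃ E : Subgroup X, E.Normal ∧ IsMulCommutative E ∧ (∀ e ∈ E, e * e = 1) ∧ N ≤ E ∧ i ∈ E ∧
      2 * Nat.card N ≤ Nat.card E ∧ ∀ x ∈ E, x ∈ N ∨ x * i ∈ N := by
  have hii : i⁻¹ = i := inv_eq_of_mul_eq_one_right hi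
  have hNc : ∀ m ∈ N, ∀ n ∈ N, m * n = n * m := fun m hm n hn => by
    rw [← inv_eq_of_mul_eq_one_right (hsq _ (mul_mem hm hn)), mul_inv_rev,
      inv_eq_of_mul_eq_one_right (hsq m hm), inv_eq_of_mul_eq_one_right (hsq n hn)]
  let E : Subgroup X :=
    { carrier := {x | x ∈ N ∨ x * i ∈ N}
      one_mem' := Or.inl (one_mem N)
      mul_mem' := by
        intro a b ha hb
        rcases ha with ha | ha <;> rcases hb with hb | hb
        · exact Or.inl (mul_mem ha hb)
        · exact Or.inr (by rw [mul_assoc]; exact mul_mem ha hb)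
        · refine Or.inr ?_
          rw [show a * b * i = a * i * b by rw [mul_assoc a i b, hcomm b hb, mul_assoc]]
          exact mul_mem ha hb
        · refine Or.inl ?_
          rw [show a * b = (a * i) * (b * i) by
            rw [mul_assoc a i, ← mul_assoc i b i]
            have e : i * b = b * i := by
              have := hcomm _ hb
              rw [← mul_assoc] at this
              exact mul_right_cancel (b := i) (by rw [this, mul_assoc])
            rw [e, mul_assoc b i i, hi, mul_one]]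
          exact mul_mem ha hb
      inv_mem' := by
        intro a ha
        rcases ha with ha | ha
        · exact Or.inl (inv_mem ha)
        · refine Or.inr ?_
          have h1 : i * (a * i) * i⁻¹ ∈ N := hN.conj_mem _ ha i
          have h2 := inv_mem h1
          rw [show (i * (a * i) * i⁻¹)⁻¹ = a⁻¹ * i⁻¹ by group] at h2
          rwa [hii] at h2 }
  have hEmem : ∀ x, x ∈ E ↔ x ∈ N ∨ x * i ∈ N := fun x => Iff.rfl
  have hform : ∀ x ∈ E, x ∈ N ∨ ∃ n ∈ N, x = n * i := fun x hx => hx.imp id fun h =>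
    ⟨_, h, by rw [mul_assoc, hi, mul_one]⟩
  refine ⟨E, ⟨fun x hx g => ?_⟩, ⟨⟨fun a b => Subtype.ext ?_⟩⟩, fun e he => ?_,
    fun n hn => Or.inl hn, Or.inr (by rw [hi]; exact one_mem N), ?_, fun x hx => hx⟩
  · rcases hform x hx with hx | ⟨n, hn, rfl⟩
    · exact Or.inl (hN.conj_mem _ hx g)
    · refine Or.inr ?_
      rw [show g * (n * i) * g⁻¹ * i = (g * n * g⁻¹) * (g * i * g⁻¹ * i⁻¹) by rw [hii]; group]
      exact mul_mem (hN.conj_mem _ hn g) (hconj g)
  · show (a : X) * b = b * a
    rcases hform _ a.2 with ha | ⟨m, hm, ha⟩ <;> rcases hform _ b.2 with hb | ⟨n, hn, hb⟩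
    · exact hNc _ ha _ hb
    · rw [hb, ← mul_assoc, hNc _ ha n hn, mul_assoc, ← hcomm _ ha, mul_assoc]
    · rw [ha, mul_assoc, hcomm _ hb, ← mul_assoc, hNc m hm _ hb, mul_assoc]
    · rw [ha, hb, mul_assoc m i, ← mul_assoc i n i, hcomm n hn, mul_assoc n i i, hi, mul_one,
        mul_assoc n i, ← mul_assoc i m i, hcomm m hm, mul_assoc m i i, hi, mul_one, hNc m hm n hn]
  · rcases hform e he with he | ⟨n, hn, rfl⟩
    · exact hsq e he
    · rw [mul_assoc, ← mul_assoc i n i, hcomm n hn, mul_assoc n i i, hi, mul_one, hsq n hn]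
  · have hinj : Function.Injective (fun p : Bool × N =>
        (⟨if p.1 then (p.2 : X) * i else p.2, by
          cases p.1
          · exact Or.inl p.2.2
          · exact Or.inr (by simp [mul_assoc, hi, p.2.2])⟩ : E)) := by
      rintro ⟨a, m⟩ ⟨b, n⟩ e
      have e' := congrArg Subtype.val e
      cases a <;> cases b <;> simp only [Bool.false_eq_true, if_false, if_true] at e'
      · exact Prod.ext rfl (Subtype.ext e')
      · refine absurd ?_ hiN
        rw [show i = (n : X)⁻¹ * m by rw [e', inv_mul_cancel_left]]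
        exact mul_mem (inv_mem n.2) m.2
      · refine absurd ?_ hiN
        rw [show i = (m : X)⁻¹ * n by rw [← e', inv_mul_cancel_left]]
        exact mul_mem (inv_mem m.2) n.2
      · exact Prod.ext rfl (Subtype.ext (mul_right_cancel e'))
    have := Nat.card_le_card_of_injective _ hinj
    rw [Nat.card_prod] at this
    simpa [Nat.card_eq_fintype_card (α := Bool)] using this

/-- An alternating biadditive map through a quotient of order at most four has one nontrivial value. -/
theorem value_unique {H M V : Type*} [Group H] [Group M] [Finite M] [Group V] (f : H →* M)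
    (v : H → H → V) (hM : Nat.card M ≤ 4) (hl : ∀ a b c, v (a * b) c = v a c * v b c)
    (hr : ∀ a b c, v a (b * c) = v a b * v a c) (halt : ∀ a, v a a = 1)
    (hker : ∀ n a, f n = 1 → v n a = 1) (hvc : ∀ a b, v a b * v a b = 1)
    {p q : H} (hpq : v p q ≠ 1) {c d : H} (hcd : v c d ≠ 1) : v c d = v p q := by
  classical
  have hsym : ∀ a b, v b a = v a b := fun a b => by
    have h := halt (a * b)
    rw [hl, hr, hr, halt, halt, one_mul, mul_one] at h
    rw [← mul_one (v b a)] at *
    exact mul_left_cancel (a := v a b) (by simpa using h.trans (hvc a b).symm)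
  have hker' : ∀ n a, f n = 1 → v a n = 1 := fun n a hn => by rw [hsym, hker n a hn]
  have heq : ∀ a a', f a = f a' → ∀ b, v a b = v a' b ∧ v b a = v b a' := by
    intro a a' e b
    have hn : f (a'⁻¹ * a) = 1 := by rw [map_mul, map_inv, e, inv_mul_cancel]
    constructor
    · conv_lhs => rw [← mul_inv_cancel_left a' a]
      rw [hl, hker _ b hn, mul_one]
    · conv_lhs => rw [← mul_inv_cancel_left a' a]
      rw [hr, hker' _ b hn, mul_one]
  have one_l : ∀ b, v 1 b = 1 := fun b => hker 1 b (map_one f)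
  have one_r : ∀ b, v b 1 = 1 := fun b => hker' 1 b (map_one f)
  have hp : f p ≠ 1 := fun e => hpq (hker p q e)
  have hq : f q ≠ 1 := fun e => hpq (hker' q p e)
  have hpq' : f p ≠ f q := fun e => hpq ((heq p q e q).1.trans (halt q))
  have hall : ∀ a, f a = f 1 ∨ f a = f p ∨ f a = f q ∨ f a = f (p * q) := by
    intro a
    by_contra hcon
    push Not at hcon
    have := Fintype.ofFinite M
    have h1 : f (p * q) ≠ f 1 := fun e => hpq (by
      have := (heq (p * q) 1 e q).1
      rwa [hl, halt, mul_one, one_l] at this)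
    have h2 : f (p * q) ≠ f p := fun e => hq (by simpa using e)
    have h3 : f (p * q) ≠ f q := fun e => hp (by simpa using e)
    let s : Finset M := {f 1, f p, f q, f (p * q), f a}
    have hs : s.card = 5 := by
      simp only [s]
      rw [Finset.card_insert_of_notMem, Finset.card_insert_of_notMem, Finset.card_insert_of_notMem,
        Finset.card_pair hcon.2.2.2.symm]
      · simp only [Finset.mem_insert, Finset.mem_singleton, not_or]
        exact ⟨h3.symm, hcon.2.2.1.symm⟩
      · simp only [Finset.mem_insert, Finset.mem_singleton, not_or]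
        exact ⟨hpq', h2.symm, hcon.2.1.symm⟩
      · simp only [Finset.mem_insert, Finset.mem_singleton, not_or, map_one]
        exact ⟨hp.symm, hq.symm, fun e => h1 (by rw [map_one]; exact e.symm),
          fun e => hcon.1 (by rw [map_one]; exact e.symm)⟩
    have := s.card_le_univ
    rw [← Nat.card_eq_fintype_card] at this
    omega
  rcases hall c with e | e | e | e <;> rcases hall d with e' | e' | e' | e' <;>
    rw [(heq _ _ e d).1, (heq _ _ e' _).2] at hcd ⊢ <;>
    simp only [hl, hr, halt, one_l, one_r, hsym p q, hvc, mul_one, one_mul, ne_eq, not_true] at hcd ⊢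

end Cfsg.Lib.TwoGroup.NoScn
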