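import Cfsg.Agent.Lib.TwoGroup.NoScn.Eps
import Mathlib.GroupTheory.Perm.Cycle.Type

/-!
# A moved self-centralizing abelian invariant subgroup has exponent at most four
-/

set_option autoImplicit false

namespace Cfsg.Lib.TwoGroup.NoScn

open scoped commutatorElement

variable {X : Type*} [Group X] {A : Subgroup (MulAut X)}

namespace Ctx

variable {B O : Subgroup X} {ψ : MulAut X} {n : ℕ}

theorem exists_central_mod [Finite X] (c : Ctx A B O ψ n) (h : Setup A) (hB : B ≠ ⊤) :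
    ∃ w, w ∉ B ∧ (∀ g, ⁅w, g⁆ ∈ B) ∧ w * w ∈ B := by
  haveI : Fact (Nat.Prime 2) := ⟨Nat.prime_two⟩
  haveI := c.normal
  haveI : Nontrivial (X ⧸ B) := QuotientGroup.nontrivial_iff.2 hB
  have hq := h.two.to_quotient B
  haveI := hq.center_nontrivial
  have hc2 : 2 ∣ Nat.card (Subgroup.center (X ⧸ B)) := by
    obtain ⟨k, hk⟩ := IsPGroup.iff_card.1 (hq.to_subgroup (Subgroup.center (X ⧸ B)))
    have hk0 : k ≠ 0 := fun e => by
      have h1 : 1 < Nat.card (Subgroup.center (X ⧸ B)) := Finite.one_lt_card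
      rw [hk, e, pow_zero] at h1; exact lt_irrefl _ h1
    rw [hk]; exact dvd_pow_self 2 hk0
  obtain ⟨z, hz⟩ := exists_prime_orderOf_dvd_card' 2 hc2
  obtain ⟨w, hw⟩ := QuotientGroup.mk_surjective (z : X ⧸ B)
  have hz2 : (z : X ⧸ B) * z = 1 := by
    have := congrArg Subtype.val (hz ▸ pow_orderOf_eq_one z : z ^ 2 = 1)
    simpa [pow_two] using this
  refine ⟨w, fun hwB => ?_, fun g => ?_, ?_⟩
  · have : (z : X ⧸ B) = 1 := hw ▸ (QuotientGroup.eq_one_iff w).2 hwB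
    rw [show z = 1 from Subtype.ext this, orderOf_one] at hz
    norm_num at hz
  · rw [← QuotientGroup.eq_one_iff]
    rw [show ((⁅w, g⁆ : X) : X ⧸ B) = ⁅(w : X ⧸ B), (g : X ⧸ B)⁆ by
      simp [commutatorElement_def], hw, commutatorElement_eq_one_iff_mul_comm]
    exact (Subgroup.mem_center_iff.1 z.2 (g : X ⧸ B)).symm
  · rw [← QuotientGroup.eq_one_iff, QuotientGroup.mk_mul, hw, hz2]

theorem exists_fourth [Finite X] (c : Ctx A B O ψ n) (h : Setup A) {b : X} (hb : b ∈ B) (hb4 : b ^ 4 ≠ 1)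
    {o : X} (ho : o ∈ O) : ∃ u ∈ B, u ^ 4 = o := by
  have hex : ∃ j, (b ^ 4) ^ 2 ^ j = 1 := by
    obtain ⟨k, hk⟩ := h.two (b ^ 4)
    exact ⟨k, hk⟩
  classical
  obtain ⟨j, hj⟩ : ∃ j, Nat.find hex = j + 1 := by
    refine Nat.exists_eq_succ_of_ne_zero fun e => hb4 ?_
    have := Nat.find_spec hex
    rwa [e, pow_zero, pow_one] at this
  set u := b ^ 2 ^ j with hu
  have e4 : u ^ 4 = (b ^ 4) ^ 2 ^ j := by rw [hu, ← pow_mul, ← pow_mul, mul_comm]
  have huO : u ^ 4 ∈ O := (c.memO _).2 ⟨pow_mem (pow_mem hb _) _, by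
    rw [e4, ← pow_add, ← two_mul, ← pow_succ', ← hj]; exact Nat.find_spec hex⟩
  have hu1 : u ^ 4 ≠ 1 := by
    rw [e4]; exact Nat.find_min hex (show j < Nat.find hex by omega)
  have huB : u ∈ B := pow_mem hb _
  rcases c.rot.cases h huO hu1 ho with rfl | rfl | rfl | rfl
  · exact ⟨1, one_mem B, one_pow 4⟩
  · exact ⟨u, huB, rfl⟩
  · exact ⟨ψ u, c.inv ψ c.rot.mem u huB, (map_pow ψ u 4).symm⟩
  · exact ⟨ψ (ψ u), c.inv ψ c.rot.mem _ (c.inv ψ c.rot.mem u huB),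
      ((map_pow ψ (ψ u) 4).symm.trans (congrArg ψ (map_pow ψ u 4).symm))⟩

theorem delta_mem_B (c : Ctx A B O ψ n) {u : X} (hu : u ∈ B) (w : X) : ⁅w, u⁆ ∈ B := by
  rw [commutatorElement_def]
  exact mul_mem (c.normal.conj_mem u hu w) (inv_mem hu)

theorem delta_mul (c : Ctx A B O ψ n) {u v : X} (hu : u ∈ B) (hv : v ∈ B) (w : X) :
    ⁅w, u * v⁆ = ⁅w, u⁆ * ⁅w, v⁆ := by
  rw [comm_mul_right, c.comm u hu _ (c.delta_mem_B hv w), mul_inv_cancel_right]

theorem eps_eq_zero [Finite X] (c : Ctx A B O ψ n) (h : Setup A) {b : X} (hb : b ∈ B) (hb4 : b ^ 4 ≠ 1)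
    {w : X} (hw2 : w * w ∈ B) {o : X} (ho : o ∈ O) : c.eps w o = 1 := by
  have hidem : ∀ o ∈ O, c.eps w (c.eps w o) = c.eps w o := by
    intro o ho
    obtain ⟨u, hu, rfl⟩ := c.exists_fourth h hb hb4 ho
    set d := ⁅w, u⁆ with hd
    have hdB := c.delta_mem_B hu w
    have huu : u * u * (u * u) = u ^ 4 := by simp [pow_succ, mul_assoc]
    have hd2 : d * d = c.eps w (u ^ 4) := by
      rw [← huu, c.eps_eq (mul_mem hu hu) (huu.symm ▸ ho), c.delta_mul hu hu]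
    have hd2O : d * d ∈ O := hd2 ▸ c.eps_mem ho w
    have hε := c.eps_eq hdB hd2O w
    have e : w * d * w⁻¹ * d = 1 := by
      have h1 : w * (w * u * w⁻¹) * w⁻¹ = u := by
        rw [show w * (w * u * w⁻¹) * w⁻¹ = (w * w) * u * (w * w)⁻¹ by group, c.comm _ hw2 u hu,
          mul_inv_cancel_right]
      rw [show w * u * w⁻¹ = d * u by rw [hd, commutatorElement_def]; group,
        show w * (d * u) * w⁻¹ = (w * d * w⁻¹) * (w * u * w⁻¹) by group,
        show w * u * w⁻¹ = d * u by rw [hd, commutatorElement_def]; group, ← mul_assoc] at h1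
      exact mul_eq_right.1 h1
    rw [show w * d * w⁻¹ = ⁅w, d⁆ * d by rw [commutatorElement_def]; group, mul_assoc, ← hε] at e
    rw [← hd2]
    exact mul_right_cancel (b := d * d) (e.trans ((c.memO _).1 hd2O).2.symm)
  by_contra hne
  refine c.eps_ne_id h (x := w) fun p hp => ?_
  have hq := c.eps_mem hp w
  have h1 : c.eps w (c.eps w p * p) = 1 := by
    rw [c.eps_mul_right hq hp, hidem p hp, c.rot.sq _ hq]
  by_contra hpne
  have hne1 : c.eps w p * p ≠ 1 := fun e =>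
    hpne (mul_right_cancel (b := p) (e.trans (c.rot.sq p hp).symm))
  exact hne (c.eps_zero h (mul_mem hq hp) hne1 h1 o ho)

theorem exponent_four [Finite X] (c : Ctx A B O ψ n) (h : Setup A)
    (hself : ∀ x, (∀ b ∈ B, x * b = b * x) → x ∈ B) (hB : B ≠ ⊤) : ∀ b ∈ B, b ^ 4 = 1 := by
  by_contra hcon
  push Not at hcon
  obtain ⟨b₀, hb₀, hb4⟩ := hcon
  have hψB : ∀ u ∈ B, ψ u ∈ B := fun u hu => c.inv ψ c.rot.mem u hu
  have hψO : ∀ o ∈ O, ψ o ∈ O := fun o ho => c.rot.inv ψ c.rot.mem o ho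
  obtain ⟨w, hwB, hw, hw2⟩ := c.exists_central_mod h hB
  have hdO : ∀ x, x * x ∈ B → ∀ u ∈ B, ⁅x, u⁆ ∈ O := by
    intro x hx2
    suffices ∀ m, ∀ u ∈ B, orderOf u ≤ m → ⁅x, u⁆ ∈ O from fun u hu => this _ u hu le_rfl
    intro m
    induction m using Nat.strong_induction_on with
    | _ m ih =>
    intro u hu hm
    by_cases hu1 : u = 1
    · rw [hu1, commutatorElement_one_right]; exact one_mem O
    obtain ⟨k, hk⟩ := h.two u
    obtain ⟨j, -, hj⟩ := (Nat.dvd_prime_pow Nat.prime_two).1 (orderOf_dvd_of_pow_eq_one hk)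
    have hj0 : j ≠ 0 := fun e => hu1 (orderOf_eq_one_iff.1 (by rw [hj, e, pow_zero]))
    have hlt : orderOf (u * u) < m := by
      refine lt_of_lt_of_le ?_ hm
      rw [← pow_two, orderOf_pow' u two_ne_zero, hj, Nat.gcd_eq_right (dvd_pow_self 2 hj0)]
      exact Nat.div_lt_self (by positivity) one_lt_two
    set d := ⁅x, u⁆ with hd
    have hdB := c.delta_mem_B hu x
    have hdd : d * d ∈ O := by
      rw [hd, ← c.delta_mul hu hu]; exact ih _ hlt _ (mul_mem hu hu) le_rfl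
    have hfix : ⁅x, d⁆ = 1 := by
      rw [← c.eps_eq hdB hdd]; exact c.eps_eq_zero h hb₀ hb4 hx2 hdd
    refine (c.memO _).2 ⟨hdB, ?_⟩
    have hxd : x * d * x⁻¹ = d := by
      rw [commutatorElement_eq_one_iff_mul_comm.1 hfix, mul_inv_cancel_right]
    have h1 : x * (x * u * x⁻¹) * x⁻¹ = u := by
      rw [show x * (x * u * x⁻¹) * x⁻¹ = (x * x) * u * (x * x)⁻¹ by group, c.comm _ hx2 u hu,
        mul_inv_cancel_right]
    rw [show x * u * x⁻¹ = d * u by rw [hd, commutatorElement_def]; group,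
      show x * (d * u) * x⁻¹ = (x * d * x⁻¹) * (x * u * x⁻¹) by group, hxd,
      show x * u * x⁻¹ = d * u by rw [hd, commutatorElement_def]; group, ← mul_assoc] at h1
    exact mul_eq_right.1 h1
  have hsqker : ∀ x, x * x ∈ B → ∀ u ∈ B, ⁅x, u * u⁆ = 1 := fun x hx u hu => by
    rw [c.delta_mul hu hu]; exact c.rot.sq _ (hdO x hx u hu)
  have hpi : ∀ x, x * x ∈ B → ∀ u ∈ B, ∀ v ∈ B, u ^ n = v ^ n → ⁅x, u⁆ = ⁅x, v⁆ := by
    intro x hx u hu v hv e
    obtain ⟨s, hs, hss⟩ := c.ker (v⁻¹ * u) (mul_mem (inv_mem hv) hu) (by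
      rw [(show Commute v⁻¹ u from c.comm _ (inv_mem hv) u hu).mul_pow, inv_pow, e, inv_mul_cancel])
    rw [show u = v * (v⁻¹ * u) by group, ← hss, c.delta_mul hv (mul_mem hs hs), hsqker x hx s hs, mul_one]
  obtain ⟨w', hw'B, hw'2, hw'1, hfull⟩ : ∃ w', w' ∉ B ∧ w' * w' ∈ B ∧ (∀ g, ⁅w', g⁆ ∈ B) ∧
      ∀ u ∈ B, ⁅w', u⁆ = 1 → u ^ n = 1 := by
    by_cases hf : ∀ u ∈ B, ⁅w, u⁆ = 1 → u ^ n = 1
    · exact ⟨w, hwB, hw2, hw, hf⟩
    push Not at hf
    obtain ⟨u₀, hu₀, hu₀w, hu₀n⟩ := hf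
    set o := u₀ ^ n with ho
    have hoO : o ∈ O := c.pi_mem hu₀
    set u₁ := ψ u₀ with hu₁
    set t := ⁅w, u₁⁆ with ht
    have hpio : u₁ ^ n = ψ o := by rw [hu₁, ho, map_pow]
    have hcases : ∀ u ∈ B, (⁅w, u⁆ = 1 ∧ (u ^ n = 1 ∨ u ^ n = o)) ∨
        (⁅w, u⁆ = t ∧ (u ^ n = ψ o ∨ u ^ n = o * ψ o)) := by
      intro u hu
      rcases eq_cases c.rot.card hoO (hψO o hoO) hu₀n
        (fun e => hu₀n (ψ.injective (e.trans (map_one ψ).symm))) (c.rot.ne₁ h hoO hu₀n).symm c.rot.sq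
        (c.pi_mem hu) with e | e | e | e
      · refine Or.inl ⟨?_, Or.inl e⟩
        rw [hpi w hw2 u hu 1 (one_mem B) (by rw [e, one_pow]), commutatorElement_one_right]
      · exact Or.inl ⟨(hpi w hw2 u hu u₀ hu₀ e).trans hu₀w, Or.inr e⟩
      · exact Or.inr ⟨hpi w hw2 u hu u₁ (hψB u₀ hu₀) (e.trans hpio.symm), Or.inl e⟩
      · refine Or.inr ⟨?_, Or.inr e⟩
        rw [hpi w hw2 u hu (u₀ * u₁) (mul_mem hu₀ (hψB u₀ hu₀)) (by
          rw [(show Commute u₀ u₁ from c.comm _ hu₀ _ (hψB u₀ hu₀)).mul_pow, hpio, e]),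
          c.delta_mul hu₀ (hψB u₀ hu₀), hu₀w, one_mul]
    have ht1 : t ≠ 1 := fun e => hwB (hself w fun u hu => commutatorElement_eq_one_iff_mul_comm.1 (by
      rcases hcases u hu with ⟨h1, -⟩ | ⟨h1, -⟩
      · exact h1
      · rw [h1, e]))
    have htO : t ∈ O := hdO w hw2 u₁ (hψB u₀ hu₀)
    have hψw2 : ψ w * ψ w ∈ B := by rw [← map_mul]; exact hψB _ hw2
    have hψwg : ∀ g, ⁅ψ w, g⁆ ∈ B := fun g => by
      have := hψB _ (hw (ψ⁻¹ g))
      rwa [map_comm, MulAut.apply_inv_self] at this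
    set w' := w * ψ w with hw'
    have hfull : ∀ u ∈ B, ⁅w', u⁆ = 1 → u ^ n = 1 := by
      intro u hu he
      have hψ' : ⁅ψ w, u⁆ ∈ O := hdO _ hψw2 u hu
      rw [hw', comm_mul_left, c.conj_O hψ'] at he
      obtain ⟨u', hu', rfl⟩ : ∃ u' ∈ B, ψ u' = u := ⟨ψ⁻¹ u, by
        have := c.inv ψ⁻¹ (inv_mem c.rot.mem) u hu; exact this, MulAut.apply_inv_self X ψ u⟩
      rw [← map_comm] at he
      have hψ1 : ∀ z, ψ z = 1 → z = 1 := fun z hz => ψ.injective (hz.trans (map_one ψ).symm)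
      rcases hcases u' hu' with ⟨h1, h1'⟩ | ⟨h1, -⟩
      · rw [h1, map_one, one_mul] at he
        rcases h1' with h1' | h1'
        · rw [← map_pow, h1', map_one]
        rcases hcases (ψ u') (hψB u' hu') with ⟨-, h2' | h2'⟩ | ⟨h2, -⟩
        · exact h2'
        · rw [← map_pow, h1'] at h2'
          exact absurd h2' (c.rot.ne₁ h hoO hu₀n)
        · rw [h2] at he; exact absurd he ht1
      · rw [h1] at he
        rcases hcases (ψ u') (hψB u' hu') with ⟨h2, -⟩ | ⟨h2, -⟩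
        · rw [h2, mul_one] at he; exact absurd (hψ1 t he) ht1
        · rw [h2] at he
          exact absurd (mul_right_cancel (b := t) (he.trans (c.rot.sq t htO).symm)) (c.rot.ne₁ h htO ht1)
    refine ⟨w', fun hmem => ?_, ?_, fun g => ?_, hfull⟩
    · exact hu₀n (hfull u₀ hu₀ (commutatorElement_eq_one_iff_mul_comm.2 (c.comm _ hmem u₀ hu₀)))
    · rw [hw', show w * ψ w * (w * ψ w) = (w * w) * ⁅w⁻¹, ψ w⁆ * (ψ w * ψ w) by
        simp only [commutatorElement_def]; group]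
      refine mul_mem (mul_mem hw2 ?_) hψw2
      have := c.normal.conj_mem _ (inv_mem (hw (ψ w))) w⁻¹
      rwa [show w⁻¹ * ⁅w, ψ w⁆⁻¹ * w⁻¹⁻¹ = ⁅w⁻¹, ψ w⁆ by simp only [commutatorElement_def]; group] at this
    · rw [hw', comm_mul_left]
      exact mul_mem (c.normal.conj_mem _ (hψwg g) w) (hw g)
  -- the involution in `w' B`
  set s := w' * w' with hs
  have hsfix : ⁅w', s⁆ = 1 := commutatorElement_eq_one_iff_mul_comm.2 (mul_assoc w' w' w').symm
  obtain ⟨v, hv, hvv⟩ := c.ker s⁻¹ (inv_mem hw'2) (by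
    rw [inv_pow, hfull s hw'2 hsfix, inv_one])
  set q := ⁅w', v⁆ with hq
  have hqO : q ∈ O := hdO w' hw'2 v hv
  obtain ⟨r, hr, hr4⟩ := c.exists_fourth h hb₀ hb4 hqO
  set b := v * (r * r) with hb
  have hbB : b ∈ B := mul_mem hv (mul_mem hr hr)
  have hdb : ⁅w', b⁆ = q := by
    rw [hb, c.delta_mul hv (mul_mem hr hr), hsqker w' hw'2 r hr, mul_one]
  have hbb : b * b = s⁻¹ * q := by
    rw [← hvv, ← hr4, hb]
    calc v * (r * r) * (v * (r * r)) = v * ((r * r) * v) * (r * r) := by simp only [mul_assoc]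
      _ = v * (v * (r * r)) * (r * r) := by rw [c.comm _ (mul_mem hr hr) v hv]
      _ = v * v * r ^ 4 := by simp [pow_succ, mul_assoc]
  set i := w' * b with hi
  have hiB : i ∉ B := fun e => hw'B (by
    have := mul_mem e (inv_mem hbB)
    rwa [hi, mul_inv_cancel_right] at this)
  have hib : ∀ x ∈ B, i * x * i⁻¹ = ⁅w', x⁆ * x := fun x hx => by
    rw [hi, show w' * b * x * (w' * b)⁻¹ = w' * (b * x * b⁻¹) * w'⁻¹ by group,
      c.comm b hbB x hx, mul_inv_cancel_right, commutatorElement_def]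
    group
  have hii : i * i = 1 := by
    rw [hi, show w' * b * (w' * b) = (w' * b * w'⁻¹) * s * b by rw [hs]; group,
      show w' * b * w'⁻¹ = ⁅w', b⁆ * b by rw [commutatorElement_def]; group, hdb,
      mul_assoc (q * b), c.comm s hw'2 b hbB, mul_assoc q, ← mul_assoc b b s, hbb,
      c.comm _ (inv_mem hw'2) q (c.le_B hqO), mul_assoc q, inv_mul_cancel, mul_one, c.rot.sq q hqO]
  refine c.not_involution h hii hiB fun g => ?_
  set z := g * i * g⁻¹ * i⁻¹ with hz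
  have hzB : z ∈ B := by
    have h1 : ⁅i, g⁆ ∈ B := by
      rw [hi, comm_mul_left]
      refine mul_mem (c.normal.conj_mem _ ?_ w') (hw'1 g)
      rw [show ⁅b, g⁆ = b * (g * b⁻¹ * g⁻¹) by rw [commutatorElement_def]; group]
      exact mul_mem hbB (c.normal.conj_mem _ (inv_mem hbB) g)
    have := inv_mem h1
    rwa [commutatorElement_inv, commutatorElement_def] at this
  have hzi : z * (⁅w', z⁆ * z) = 1 := by
    rw [← hib z hzB, inv_eq_of_mul_eq_one_right hii, ← mul_assoc z (i * z), ← mul_assoc z i z,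
      mul_assoc (z * i) z i, show z * i = g * i * g⁻¹ by rw [hz]; group,
      show g * i * g⁻¹ * (g * i * g⁻¹) = g * (i * i) * g⁻¹ by group, hii]
    group
  have hdz : ⁅w', z⁆ ∈ O := hdO w' hw'2 z hzB
  rw [← mul_assoc, c.comm_O hdz z, mul_assoc] at hzi
  have hzz : z * z = ⁅w', z⁆ := by
    rw [← inv_eq_of_mul_eq_one_right hzi, inv_eq_of_mul_eq_one_right (c.rot.sq _ hdz)]
  have h0 : ⁅w', z⁆ = 1 := by
    rw [← c.eps_eq hzB (hzz ▸ hdz)]; exact c.eps_eq_zero h hb₀ hb4 hw'2 (hzz ▸ hdz)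
  exact (c.memO _).2 ⟨hzB, hzz.trans h0⟩

end Ctx

end Cfsg.Lib.TwoGroup.NoScn
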