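import Cfsg.Agent.Lib.TwoGroup.NoScn.ClassTwo

/-!
# All squares central and a centre of order four
-/

set_option autoImplicit false

namespace Cfsg.Lib.TwoGroup.NoScn

open scoped commutatorElement

variable {X : Type*} [Group X] {A : Subgroup (MulAut X)}

theorem exists_kill : ∀ u : Fin 2 → ZMod 2, ∃ v : Fin 2 → ZMod 2, v ≠ 0 ∧ ∑ i, v i * u i = 0 := by
  decide

namespace Sq

variable [Finite X] (s : Sq X) (h : Setup A) (hZ4 : Nat.card (Subgroup.center X) = 4)
include s h hZ4

theorem mem_center_of_sq {i : X} (hi : i * i = 1) : i ∈ Subgroup.center X := by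
  by_contra hiZ
  obtain ⟨E, hEn, hEc, hEe, -, -, hcard, -⟩ :=
    extend (Subgroup.center X) (s.center_elementary h).1 hi hiZ
      (fun n hn => Subgroup.mem_center_iff.1 hn i)
      (fun g => by rw [← commutatorElement_def]; exact s.comm_mem g i)
  have := h.small E hEn hEc hEe
  omega

omit h hZ4 in
theorem sq_center_mul (hel : ∀ z ∈ Subgroup.center X, z * z = 1) (x : X) {z : X}
    (hz : z ∈ Subgroup.center X) : x * z * (x * z) = x * x := by
  have hc : Commute z x := (Subgroup.mem_center_iff.1 hz x).symm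
  rw [hc.mul_mul_mul_comm, hel z hz, mul_one]

/-- The rank of the central quotient is at most four, with the derived subgroup full in case of equality. -/
theorem rank_bound : ∃ d, Nat.card (X ⧸ Subgroup.center X) = 2 ^ d ∧ d ≤ 4 ∧
    (d = 4 → commutator X = Subgroup.center X) := by
  haveI : Fact (Nat.Prime 2) := ⟨Nat.prime_two⟩
  obtain ⟨hel, -⟩ := s.center_elementary h
  set Z := Subgroup.center X with hZ
  obtain ⟨e, hinj, hadd⟩ := Cfsg.Lib.PGroup.RankBound.exists_coord (Z := Z) (l := 2)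
    (fun a b => Subtype.ext (Subgroup.mem_center_iff.1 b.2 a))
    (fun a => Subtype.ext (by simpa [pow_two] using hel a a.2)) (by rw [hZ4]; norm_num)
  have he1 : e 1 = 0 := by simpa using hadd 1 1
  obtain ⟨d, hd⟩ := IsPGroup.iff_card.1 (h.two.to_quotient Z)
  let sq : X → Z := fun x => ⟨x * x, s.mem x⟩
  let g : X ⧸ Z → Fin 2 → ZMod 2 := fun w => e (sq w.out)
  have hg : ∀ x : X, g (x : X ⧸ Z) = e (sq x) := by
    intro x
    obtain ⟨z, hz⟩ := QuotientGroup.mk_out_eq_mul Z x
    refine congrArg e (Subtype.ext ?_)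
    show (x : X ⧸ Z).out * (x : X ⧸ Z).out = x * x
    rw [hz]; exact s.sq_center_mul hel x z.2
  let B : X ⧸ Z → X ⧸ Z → Fin 2 → ZMod 2 := fun v w => g (v * w) - g v - g w
  have hB : ∀ x y : X, B x y = e ⟨⁅y, x⁆, s.comm_mem y x⟩ := by
    intro x y
    show g ((x : X ⧸ Z) * y) - g x - g y = _
    rw [← QuotientGroup.mk_mul, hg, hg, hg,
      show sq (x * y) = sq x * sq y * ⟨⁅y, x⁆, s.comm_mem y x⟩ from Subtype.ext (s.sq_mul x y), hadd, hadd]
    abel
  have hW : ∀ w : X ⧸ Z, w * w = 1 := fun w => by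
    induction w using QuotientGroup.induction_on with
    | _ x => rw [← QuotientGroup.mk_mul, QuotientGroup.eq_one_iff]; exact s.mem x
  have hu : Nat.card {w : X ⧸ Z // g w = 0} = 2 ^ 0 := by
    rw [pow_zero, Nat.card_eq_one_iff_unique]
    have h1 : ∀ w : X ⧸ Z, g w = 0 → w = 1 := by
      intro w
      induction w using QuotientGroup.induction_on with
      | _ x =>
        intro hx
        rw [hg, ← he1] at hx
        exact (QuotientGroup.eq_one_iff x).2 (s.mem_center_of_sq h hZ4 (congrArg Subtype.val (hinj hx) : _))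
    refine ⟨⟨fun a b => Subtype.ext ((h1 _ a.2).trans (h1 _ b.2).symm)⟩, ⟨⟨((1 : X) : X ⧸ Z), ?_⟩⟩⟩
    rw [hg, show sq 1 = 1 from Subtype.ext (one_mul 1), he1]
  obtain ⟨hle, heq⟩ := Cfsg.Lib.PGroup.RankBound.quadratic_bound hW hd g B
    (fun x y => by simp only [B]; abel)
    (fun x y z => by
      induction x using QuotientGroup.induction_on with
      | _ x =>
      induction y using QuotientGroup.induction_on with
      | _ y =>
      induction z using QuotientGroup.induction_on with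
      | _ z =>
        rw [← QuotientGroup.mk_mul, hB, hB, hB, ← hadd]
        refine congrArg e (Subtype.ext ?_)
        show ⁅z, x * y⁆ = ⁅z, x⁆ * ⁅z, y⁆
        rw [comm_mul_right, s.conj_comm])
    (fun x y z => by
      induction x using QuotientGroup.induction_on with
      | _ x =>
      induction y using QuotientGroup.induction_on with
      | _ y =>
      induction z using QuotientGroup.induction_on with
      | _ z =>
        rw [← QuotientGroup.mk_mul, hB, hB, hB, ← hadd]
        refine congrArg e (Subtype.ext ?_)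
        show ⁅y * z, x⁆ = ⁅y, x⁆ * ⁅z, x⁆
        rw [comm_mul_left, s.conj_comm]
        exact (Subgroup.mem_center_iff.1 (s.comm_mem y x) _))
    hu
  refine ⟨d, hd, by omega, fun hd4 => ?_⟩
  obtain ⟨-, hcomp⟩ := heq (by omega)
  by_contra hne
  have hlt : commutator X < Z := lt_of_le_of_ne s.commutator_le hne
  have hcard : Nat.card (commutator X) ≤ 2 := by
    have hdvd := Subgroup.card_dvd_of_le hlt.le
    rw [hZ4] at hdvd
    have hne4 : Nat.card (commutator X) ≠ 4 := fun e4 =>
      hlt.ne (Subgroup.eq_of_le_of_card_ge hlt.le (by rw [hZ4, e4]))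
    have := Nat.le_of_dvd (by norm_num) hdvd
    have : Nat.card (commutator X) ≠ 3 := fun e3 => by rw [e3] at hdvd; norm_num at hdvd
    omega
  obtain ⟨x₀, y₀, hxy⟩ := s.nonab
  have hv1 : ⁅x₀, y₀⁆ ≠ 1 := fun e => hxy (commutatorElement_eq_one_iff_mul_comm.1 e)
  have hmem : ∀ x y : X, ⁅x, y⁆ ∈ commutator X := fun x y => by
    rw [commutator_def]; exact Subgroup.commutator_mem_commutator (Subgroup.mem_top x) (Subgroup.mem_top y)
  have hset : ({1, ⁅x₀, y₀⁆} : Set X) = (commutator X : Set X) := by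
    refine Set.eq_of_subset_of_ncard_le ?_ ?_ (Set.toFinite _)
    · rintro w (rfl | rfl)
      exacts [one_mem _, hmem _ _]
    · rw [Set.ncard_pair hv1.symm, ← Nat.card_coe_set_eq]; exact hcard
  obtain ⟨v, hv0, hv⟩ := exists_kill
    (e ⟨⁅x₀, y₀⁆, s.comm_mem x₀ y₀⟩)
  refine hv0 (hcomp v fun p q => ?_)
  induction p using QuotientGroup.induction_on with
  | _ x =>
  induction q using QuotientGroup.induction_on with
  | _ y =>
    rw [hB]
    have hyx : ⁅y, x⁆ ∈ ({1, ⁅x₀, y₀⁆} : Set X) := hset ▸ hmem y x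
    rcases hyx with e' | e'
    · rw [show (⟨⁅y, x⁆, s.comm_mem y x⟩ : Z) = 1 from Subtype.ext e', he1]; simp
    · rw [show (⟨⁅y, x⁆, s.comm_mem y x⟩ : Z) = ⟨⁅x₀, y₀⁆, s.comm_mem x₀ y₀⟩ from Subtype.ext e']
      exact hv

theorem small_moved (hmoved : ∃ φ ∈ A, ∃ z ∈ Subgroup.center X, φ z ≠ z) {d : ℕ}
    (hd : Nat.card (X ⧸ Subgroup.center X) = 2 ^ d) (hd3 : d ≤ 3) : False := by
  obtain ⟨hel, -⟩ := s.center_elementary h
  have hc : ∀ a ∈ Subgroup.center X, ∀ b ∈ Subgroup.center X, a * b = b * a :=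
    fun a _ b hb => Subgroup.mem_center_iff.1 hb a
  obtain ⟨ψ, r, -⟩ := exists_rot h _ hc (fun φ _ b hb => map_center φ hb) hmoved
  by_cases hd2 : d ≤ 2
  · obtain ⟨x, y, hxy⟩ := s.nonab
    have hv1 : ⁅x, y⁆ ≠ 1 := fun e => hxy (commutatorElement_eq_one_iff_mul_comm.1 e)
    have hfix := value_unique (QuotientGroup.mk' (Subgroup.center X)) (fun a b : X => ⁅a, b⁆)
      (by rw [hd]; exact Nat.pow_le_pow_right (by norm_num) hd2)
      (fun a b c => by
        rw [comm_mul_left, s.conj_comm]; exact (Subgroup.mem_center_iff.1 (s.comm_mem a c) _))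
      (fun a b c => by rw [comm_mul_right, s.conj_comm])
      commutatorElement_self
      (fun m a hm => commutatorElement_eq_one_iff_mul_comm.2
        (Subgroup.mem_center_iff.1 ((QuotientGroup.eq_one_iff m).1 hm) a).symm)
      s.comm_two (p := x) (q := y) hv1 (c := ψ x) (d := ψ y)
      (by rw [← map_comm]; exact fun e => hv1 (ψ.injective (e.trans (map_one ψ).symm)))
    exact hv1 (r.fix_free h ⟨s.comm_mem x y, hel _ (s.comm_mem x y)⟩ ((map_comm ψ x y).trans hfix))
  classical
  have : Fintype X := Fintype.ofFinite X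
  let T : Finset X := Finset.univ.filter fun x => x ∉ Subgroup.center X
  have hsqne : ∀ x ∈ T, x * x ≠ 1 := fun x hx e =>
    (Finset.mem_filter.1 hx).2 (s.mem_center_of_sq h hZ4 e)
  have hmemO : ∀ {z : X}, z ∈ Subgroup.center X → z ∈ omega _ hc := fun hz => ⟨hz, hel _ hz⟩
  obtain ⟨a, ha, ham⟩ := r.moves
  have ha1 : a ≠ 1 := fun e => ham (by rw [e, map_one])
  let F : X → Finset X := fun o => T.filter fun x => x * x = o
  have hshift : ∀ o, o ∈ Subgroup.center X → (F (ψ o)).card = (F o).card := by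
    intro o _
    refine (Finset.card_bij (fun x _ => ψ x) (fun x hx => ?_) (fun x _ y _ e => ψ.injective e)
      (fun y hy => ⟨ψ⁻¹ y, ?_, MulAut.apply_inv_self X ψ y⟩)).symm
    · simp only [F, T, Finset.mem_filter, Finset.mem_univ, true_and] at hx ⊢
      refine ⟨fun hm => hx.1 ?_, by rw [← map_mul, hx.2]⟩
      have := map_center ψ⁻¹ hm
      rwa [MulAut.inv_apply_self] at this
    · simp only [F, T, Finset.mem_filter, Finset.mem_univ, true_and] at hy ⊢
      refine ⟨fun hm => hy.1 ?_, by rw [← map_mul, hy.2, MulAut.inv_apply_self]⟩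
      have := map_center ψ hm
      rwa [MulAut.apply_inv_self] at this
  have hψa : ψ a ∈ omega _ hc := r.inv ψ r.mem a ha
  have hsplit : T = F a ∪ F (ψ a) ∪ F (ψ (ψ a)) := by
    ext x
    simp only [F, Finset.mem_union, Finset.mem_filter]
    constructor
    · intro hx
      rcases r.cases h ha ha1 (hmemO (s.mem x)) with e | e | e | e
      exacts [absurd e (hsqne x hx), Or.inl (Or.inl ⟨hx, e⟩), Or.inl (Or.inr ⟨hx, e⟩), Or.inr ⟨hx, e⟩]
    · rintro ((⟨hx, -⟩ | ⟨hx, -⟩) | ⟨hx, -⟩) <;> exact hx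
  have d1 : Disjoint (F a) (F (ψ a)) := Finset.disjoint_left.2 fun x h1 h2 =>
    r.ne₁ h ha ha1 ((Finset.mem_filter.1 h2).2.symm.trans (Finset.mem_filter.1 h1).2)
  have d2 : Disjoint (F a ∪ F (ψ a)) (F (ψ (ψ a))) := by
    refine Finset.disjoint_union_left.2 ⟨Finset.disjoint_left.2 fun x h1 h2 => ?_,
      Finset.disjoint_left.2 fun x h1 h2 => ?_⟩
    · exact r.ne₂ h ha ha1 ((Finset.mem_filter.1 h2).2.symm.trans (Finset.mem_filter.1 h1).2)
    · exact r.ne₁ h hψa (fun e => ha1 (ψ.injective (e.trans (map_one ψ).symm)))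
        ((Finset.mem_filter.1 h2).2.symm.trans (Finset.mem_filter.1 h1).2)
  have hT := congrArg Finset.card hsplit
  rw [Finset.card_union_of_disjoint d2, Finset.card_union_of_disjoint d1, hshift _ hψa.1, hshift _ ha.1] at hT
  have hcT : T.card + 4 = Nat.card X := by
    rw [Nat.card_eq_fintype_card (α := X), ← Finset.card_univ,
      ← Finset.card_filter_add_card_filter_not (s := (Finset.univ : Finset X)) (fun x => x ∉ Subgroup.center X)]
    congr 1
    rw [← hZ4, Nat.card_eq_fintype_card, Fintype.card_subtype]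
    simp only [not_not]
  have hX : Nat.card X = 2 ^ d * 4 := by
    rw [Subgroup.card_eq_card_quotient_mul_card_subgroup (Subgroup.center X), hd, hZ4]
  have : d = 3 := by omega
  subst this
  rw [show (2 : ℕ) ^ 3 * 4 = 32 by norm_num] at hX
  omega

theorem small_fixed (hfix : ∀ φ ∈ A, ∀ z ∈ Subgroup.center X, φ z = z) {d : ℕ}
    (hd : Nat.card (X ⧸ Subgroup.center X) = 2 ^ d) (hd3 : d ≤ 3) : False := by
  obtain ⟨hel, hgen⟩ := s.center_elementary h
  set Z := Subgroup.center X with hZ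
  have hW : ∀ w : X ⧸ Z, w * w = 1 := fun w => by
    induction w using QuotientGroup.induction_on with
    | _ x => rw [← QuotientGroup.mk_mul, QuotientGroup.eq_one_iff]; exact s.mem x
  letI : CommGroup (X ⧸ Z) := { (inferInstance : Group (X ⧸ Z)) with
    mul_comm := fun a b => by
      rw [← inv_eq_of_mul_eq_one_right (hW (a * b)), mul_inv_rev, inv_eq_of_mul_eq_one_right (hW a),
        inv_eq_of_mul_eq_one_right (hW b)] }
  letI act : MulAction A (X ⧸ Z) :=
    { smul := fun φ w => QuotientGroup.map Z Z (φ : MulAut X).toMonoidHom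
        (fun _ hz => map_center (φ : MulAut X) hz) w
      mul_smul := fun φ χ w => by
        induction w using QuotientGroup.induction_on with
        | _ x => rfl
      one_smul := fun w => by
        induction w using QuotientGroup.induction_on with
        | _ x => rfl }
  haveI : Fintype A := Fintype.ofFinite A
  have hfree : ∀ w ∈ ({1}ᶜ : Set (X ⧸ Z)), ∃ g : A, g • w ≠ w := by
    intro w hw
    by_contra hcon
    push Not at hcon
    induction w using QuotientGroup.induction_on with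
    | _ x =>
      have hp := prod_eq_one h (QuotientGroup.mk' Z) x
      rw [Finset.prod_congr rfl (fun (φ : A) _ => show QuotientGroup.mk' Z ((φ : MulAut X) x) = (x : X ⧸ Z)
          from hcon φ), Finset.prod_const, Finset.card_univ, ← Nat.card_eq_fintype_card] at hp
      obtain ⟨k, hk⟩ := h.odd
      rw [hk, pow_succ, pow_mul, pow_two, hW, one_pow, one_mul] at hp
      exact hw hp
  have hinv : ∀ g : A, ∀ w ∈ ({1}ᶜ : Set (X ⧸ Z)), g • w ∈ ({1}ᶜ : Set (X ⧸ Z)) := by
    intro g w hw e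
    refine hw ?_
    have h1 : g • (1 : X ⧸ Z) = 1 := map_one (QuotientGroup.map Z Z (g : MulAut X).toMonoidHom
      (fun _ hz => map_center (g : MulAut X) hz))
    exact smul_left_cancel g ((Set.mem_singleton_iff.1 e).trans h1.symm)
  have hS : ({1}ᶜ : Set (X ⧸ Z)).ncard + 1 = 2 ^ d := by
    rw [← hd, ← Set.ncard_singleton (1 : X ⧸ Z), add_comm]
    exact Set.ncard_add_ncard_compl _
  have hd1 : d ≠ 0 := fun e => by
    obtain ⟨x, y, hxy⟩ := s.nonab
    have hsub : Subsingleton (X ⧸ Z) := (Nat.card_eq_one_iff_unique.1 (by rw [hd, e, pow_zero])).1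
    exact hxy (Subgroup.mem_center_iff.1 ((QuotientGroup.eq_one_iff y).1 (Subsingleton.elim _ _)) x)
  have hodd : Odd ({1}ᶜ : Set (X ⧸ Z)).ncard := by
    obtain ⟨k, rfl⟩ := Nat.exists_eq_succ_of_ne_zero hd1
    rw [pow_succ] at hS
    exact ⟨2 ^ k - 1, by have := Nat.one_le_two_pow (n := k); omega⟩
  have h8 : 2 ^ d ≤ 2 ^ 3 := Nat.pow_le_pow_right (by norm_num) hd3
  obtain ⟨x₀, y₀, hxy⟩ := s.nonab
  have hx₀ : x₀ ∉ Z := fun e => hxy (Subgroup.mem_center_iff.1 e y₀).symm
  have hle : Subgroup.closure {g : X | ∃ x : X, g = x * x} ≤ Subgroup.zpowers (x₀ * x₀) := by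
    rw [Subgroup.closure_le]
    rintro _ ⟨y, rfl⟩
    by_cases hy : y ∈ Z
    · rw [hel y hy]; exact one_mem _
    obtain ⟨g, hg⟩ := transitive_small h.odd _ hodd (by omega) hinv hfree
      (a := (x₀ : X ⧸ Z)) (b := (y : X ⧸ Z)) (fun e => hx₀ ((QuotientGroup.eq_one_iff _).1 e))
      (fun e => hy ((QuotientGroup.eq_one_iff _).1 e))
    obtain ⟨z, hz, rfl⟩ : ∃ z ∈ Z, (g : MulAut X) x₀ * z = y :=
      ⟨_, QuotientGroup.eq.1 hg, mul_inv_cancel_left _ _⟩
    rw [s.sq_center_mul hel _ hz, ← map_mul, hfix g g.2 _ (s.mem x₀)]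
    exact Subgroup.mem_zpowers _
  rw [hgen] at hle
  have h4 := Subgroup.card_le_of_le hle
  rw [hZ4, Nat.card_zpowers] at h4
  have : orderOf (x₀ * x₀) ≤ 2 := Nat.le_of_dvd two_pos
    (orderOf_dvd_of_pow_eq_one (by rw [pow_two]; exact hel _ (s.mem x₀)))
  omega

end Sq

/-- If all squares are central, one of the three possibilities holds. -/
theorem conclusion_of_sq [Finite X] (h : Setup A) (s : Sq X) : Conclusion X := by
  rcases s.card_center h with hZ2 | hZ4
  · exact conclusion_two h s hZ2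
  haveI : Fact (Nat.Prime 2) := ⟨Nat.prime_two⟩
  obtain ⟨d, hd, hd4, hcomm⟩ := s.rank_bound h hZ4
  by_cases hd3 : d ≤ 3
  · by_cases hfix : ∀ φ ∈ A, ∀ z ∈ Subgroup.center X, φ z = z
    · exact (s.small_fixed h hZ4 hfix hd hd3).elim
    · push Not at hfix
      exact (s.small_moved h hZ4 hfix hd hd3).elim
  obtain rfl : d = 4 := by omega
  obtain ⟨hel, hgen⟩ := s.center_elementary h
  refine Or.inr (Or.inl ⟨⟨h.two, s.frattini_eq h.two hgen, hcomm rfl⟩, ?_, ?_, fun x hx => ?_⟩)
  · rw [Subgroup.card_eq_card_quotient_mul_card_subgroup (Subgroup.center X), hd, hZ4]; norm_num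
  · have he : Nat.card {x : X // x ^ 2 = 1} = 4 := by
      rw [← hZ4]
      exact Nat.card_congr (Equiv.subtypeEquivRight fun x => ⟨fun hx => s.mem_center_of_sq h hZ4
        (by rwa [← pow_two]), fun hx => by rw [pow_two]; exact hel x hx⟩)
    have := orderTwo_count (X := X)
    omega
  · exact s.mem_center_of_sq h hZ4 (by rw [← pow_two, ← hx]; exact pow_orderOf_eq_one x)

end Cfsg.Lib.TwoGroup.NoScn
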