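import Cfsg.Agent.Lib.TwoGroup.NoScn.Big
import Cfsg.Agent.Lib.PGroup.RankBound
import Cfsg.Agent.Lib.PGroup.ExtraspecialClassify
import Mathlib.GroupTheory.SpecificGroups.Quaternion

/-!
# The case where all squares are central
-/

set_option autoImplicit false

namespace Cfsg.Lib.TwoGroup.NoScn

open scoped commutatorElement

variable {X : Type*} [Group X] {A : Subgroup (MulAut X)}

/-- The three possibilities. -/
def Conclusion (X : Type*) [Group X] : Prop :=
  Nonempty (X ≃* QuaternionGroup 2) ∨
    (Cfsg.IsSpecial 2 X ∧ Nat.card X = 64 ∧ Nat.card {x : X // orderOf x = 2} = 3 ∧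
      ∀ x : X, orderOf x = 2 → x ∈ Subgroup.center X) ∨
    (Cfsg.IsExtraspecial 2 X ∧ Nat.card X = 32 ∧ Nat.card {x : X // orderOf x = 2} = 11)

theorem map_center (φ : MulAut X) {z : X} (hz : z ∈ Subgroup.center X) : φ z ∈ Subgroup.center X := by
  rw [Subgroup.mem_center_iff] at hz ⊢
  intro g
  have := congrArg φ (hz (φ⁻¹ g))
  rwa [map_mul, map_mul, MulAut.apply_inv_self] at this

/-- All squares are central. -/
structure Sq (X : Type*) [Group X] : Prop where
  mem : ∀ x : X, x * x ∈ Subgroup.center X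
  nonab : ∃ x y : X, x * y ≠ y * x

namespace Sq

variable (s : Sq X)
include s

theorem comm_mem (x y : X) : ⁅x, y⁆ ∈ Subgroup.center X := by
  rw [show ⁅x, y⁆ = x * x * ((x⁻¹ * y) * (x⁻¹ * y)) * (y⁻¹ * y⁻¹) by
    simp only [commutatorElement_def]; group]
  exact mul_mem (mul_mem (s.mem x) (s.mem _)) (s.mem _)

theorem conj_comm (a x y : X) : a * ⁅x, y⁆ * a⁻¹ = ⁅x, y⁆ := by
  rw [Subgroup.mem_center_iff.1 (s.comm_mem x y) a, mul_inv_cancel_right]

theorem comm_two (x y : X) : ⁅x, y⁆ * ⁅x, y⁆ = 1 := by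
  have e := comm_sq x y
  rw [s.conj_comm, commutatorElement_eq_one_iff_mul_comm.2 (Subgroup.mem_center_iff.1 (s.mem x) y).symm] at e
  exact e.symm

theorem sq_mul (x y : X) : x * y * (x * y) = x * x * (y * y) * ⁅y, x⁆ := by
  calc x * y * (x * y) = x * (⁅y, x⁆ * (x * y)) * y := by simp only [commutatorElement_def]; group
    _ = x * (x * y * ⁅y, x⁆) * y := by rw [Subgroup.mem_center_iff.1 (s.comm_mem y x) (x * y)]
    _ = x * x * y * (⁅y, x⁆ * y) := by simp only [mul_assoc]
    _ = x * x * (y * y) * ⁅y, x⁆ := by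
      rw [← Subgroup.mem_center_iff.1 (s.comm_mem y x) y]; simp only [mul_assoc]

theorem commutator_le : commutator X ≤ Subgroup.center X := by
  rw [commutator_def, Subgroup.commutator_le]
  exact fun a _ b _ => s.comm_mem a b

theorem frattini_eq [Finite X] (hX : IsPGroup 2 X)
    (hgen : Subgroup.closure {g : X | ∃ x : X, g = x * x} = Subgroup.center X) :
    frattini X = Subgroup.center X := by
  haveI : Fact (Nat.Prime 2) := ⟨Nat.prime_two⟩
  refine le_antisymm (Cfsg.Lib.PGroup.frattini_le_of_commutator_le_of_pow_mem (p := 2) s.commutator_le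
    fun g => by rw [pow_two]; exact s.mem g) ?_
  rw [← hgen, Subgroup.closure_le]
  rintro _ ⟨x, rfl⟩
  rw [← pow_two]
  exact Cfsg.Lib.PGroup.pow_mem_frattini hX x

theorem center_elementary [Finite X] (h : Setup A) : (∀ z ∈ Subgroup.center X, z * z = 1) ∧
    Subgroup.closure {g : X | ∃ x : X, g = x * x} = Subgroup.center X := by
  set K := Subgroup.closure {g : X | ∃ x : X, g = x * x} with hK
  have hKZ : K ≤ Subgroup.center X := by
    rw [hK, Subgroup.closure_le]; rintro _ ⟨x, rfl⟩; exact s.mem x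
  have hsqK : ∀ x : X, x * x ∈ K := fun x => Subgroup.subset_closure ⟨x, rfl⟩
  by_cases hfix : ∀ φ ∈ A, ∀ z ∈ Subgroup.center X, φ z = z
  · haveI hKn : K.Normal := ⟨fun k hk g => by
      rwa [Subgroup.mem_center_iff.1 (hKZ hk) g, mul_inv_cancel_right]⟩
    have he : ∀ a : X ⧸ K, a * a = 1 := fun a => by
      induction a using QuotientGroup.induction_on with
      | _ x => rw [← QuotientGroup.mk_mul, QuotientGroup.eq_one_iff]; exact hsqK x
    letI : CommGroup (X ⧸ K) := { (inferInstance : Group (X ⧸ K)) with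
      mul_comm := fun a b => by
        rw [← inv_eq_of_mul_eq_one_right (he (a * b)), mul_inv_rev, inv_eq_of_mul_eq_one_right (he a),
          inv_eq_of_mul_eq_one_right (he b)] }
    haveI : Fintype A := Fintype.ofFinite A
    have hZK : Subgroup.center X ≤ K := by
      intro z hz
      have hp := prod_eq_one h (QuotientGroup.mk' K) z
      rw [Finset.prod_congr rfl (fun (φ : A) _ => congrArg (QuotientGroup.mk' K) (hfix φ φ.2 z hz)),
        Finset.prod_const, Finset.card_univ, ← Nat.card_eq_fintype_card] at hp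
      obtain ⟨k, hk⟩ := h.odd
      rw [hk, pow_succ, pow_mul, pow_two, he, one_pow, one_mul] at hp
      exact (QuotientGroup.eq_one_iff z).1 hp
    have hKeq : K = Subgroup.center X := le_antisymm hKZ hZK
    have h4 : ∀ x : X, x * x * (x * x) = 1 := by
      intro x
      have hmul : ∀ a b : X, a * b * (a * b) * (a * b * (a * b)) = a * a * (a * a) * (b * b * (b * b)) := by
        intro a b
        rw [s.sq_mul a b]
        have c1 : Commute (a * a * (b * b)) ⁅b, a⁆ := Subgroup.mem_center_iff.1 (s.comm_mem b a) _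
        have c2 : Commute (a * a) (b * b) := Subgroup.mem_center_iff.1 (s.mem b) _
        rw [c1.symm.mul_mul_mul_comm, s.comm_two, mul_one, c2.symm.mul_mul_mul_comm]
      let f : X →* X :=
        { toFun := fun y => y * y * (y * y)
          map_one' := by simp
          map_mul' := hmul }
      refine eq_one_of_invariant h f (fun φ hφ y => ?_) x
      show φ y * φ y * (φ y * φ y) = y * y * (y * y)
      rw [← map_mul, hfix φ hφ _ (s.mem y)]
    refine ⟨fun z hz => ?_, hKeq⟩
    rw [← hKeq, hK] at hz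
    induction hz using Subgroup.closure_induction with
    | mem y hy => obtain ⟨x, rfl⟩ := hy; exact h4 x
    | one => simp
    | mul a b ha hb iha ihb =>
      have hc : Commute a b := (Subgroup.mem_center_iff.1 (hKZ ha) b).symm
      rw [hc.symm.mul_mul_mul_comm, iha, ihb, one_mul]
    | inv a _ iha => rw [← mul_inv_rev, iha, inv_one]
  · push Not at hfix
    have hc : ∀ a ∈ Subgroup.center X, ∀ b ∈ Subgroup.center X, a * b = b * a :=
      fun a _ b hb => Subgroup.mem_center_iff.1 hb a
    have hel : ∀ z ∈ Subgroup.center X, z * z = 1 := by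
      by_contra hcon
      push Not at hcon
      obtain ⟨O, ψ, n, c⟩ := exists_ctx h _ hc (fun φ _ b hb => map_center φ hb) hfix hcon
      obtain ⟨x, y, hxy⟩ := s.nonab
      exact hxy (c.sq_stage h ⊤ (fun _ _ _ _ => Subgroup.mem_top _)
        (fun u _ b hb => Subgroup.mem_center_iff.1 hb u) (fun u _ => s.mem u) (fun u _ g => s.comm_mem u g)
        x (Subgroup.mem_top x) y (Subgroup.mem_top y))
    refine ⟨hel, le_antisymm hKZ fun z hz => ?_⟩
    obtain ⟨ψ, r, -⟩ := exists_rot h _ hc (fun φ _ b hb => map_center φ hb) hfix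
    obtain ⟨a, ha⟩ : ∃ a : X, a * a ≠ 1 := by
      by_contra hcon
      push Not at hcon
      obtain ⟨x, y, hxy⟩ := s.nonab
      exact hxy (by rw [← inv_eq_of_mul_eq_one_right (hcon (x * y)), mul_inv_rev,
        inv_eq_of_mul_eq_one_right (hcon x), inv_eq_of_mul_eq_one_right (hcon y)])
    rcases r.cases h (o := a * a) ⟨s.mem a, hel _ (s.mem a)⟩ ha ⟨hz, hel z hz⟩ with rfl | rfl | rfl | rfl
    · exact one_mem K
    · exact hsqK a
    · rw [map_mul]; exact hsqK _
    · rw [map_mul, map_mul]; exact hsqK _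

theorem card_center [Finite X] (h : Setup A) :
    Nat.card (Subgroup.center X) = 2 ∨ Nat.card (Subgroup.center X) = 4 := by
  haveI : Fact (Nat.Prime 2) := ⟨Nat.prime_two⟩
  have hlt := h.small (Subgroup.center X) inferInstance inferInstance (s.center_elementary h).1
  obtain ⟨k, hk⟩ := IsPGroup.iff_card.1 (h.two.to_subgroup (Subgroup.center X))
  have hne : k ≠ 0 := by
    rintro rfl
    obtain ⟨x, y, hxy⟩ := s.nonab
    rw [pow_zero, Subgroup.card_eq_one] at hk
    have := s.comm_mem x y
    rw [hk, Subgroup.mem_bot, commutatorElement_eq_one_iff_mul_comm] at this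
    exact hxy this
  rw [hk] at hlt ⊢
  have : k < 3 := (Nat.pow_lt_pow_iff_right one_lt_two).1 (by simpa using hlt)
  interval_cases k <;> simp at hne ⊢

end Sq

/-- Quaternion group of order eight, as an extraspecial setting. -/
theorem quaternion_setting : ∃ (z : QuaternionGroup 2) (q : QuaternionGroup 2 × QuaternionGroup 2),
    Cfsg.Lib.Extraspecial.Setting 2 z ∧ Cfsg.Lib.Extraspecial.SympList z ⊤ [q] ∧
      Cfsg.Lib.Extraspecial.IsQ z q := by
  set z : QuaternionGroup 2 := QuaternionGroup.a 2 with hz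
  set x : QuaternionGroup 2 := QuaternionGroup.a 1 with hx
  set y : QuaternionGroup 2 := QuaternionGroup.xa 0 with hy
  have h1 : ∀ w : QuaternionGroup 2, w = 1 ∨ w = z → w ∈ Subgroup.zpowers z := by
    rintro w (rfl | rfl)
    exacts [one_mem _, Subgroup.mem_zpowers _]
  have hcen : ∀ g : QuaternionGroup 2, g * z = z * g := by rw [hz]; decide
  have hord : orderOf z = 2 := by
    haveI : Fact (Nat.Prime 2) := ⟨Nat.prime_two⟩
    exact orderOf_eq_prime (by rw [hz]; decide) (by rw [hz]; decide)
  refine ⟨z, (x, y), ⟨Subgroup.mem_center_iff.2 hcen, hord, fun a b => h1 _ ?_, fun a => h1 _ ?_⟩, ?_,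
    by rw [hx, hz]; decide, by rw [hy, hz]; decide⟩
  · revert a b; rw [hz]; simp only [commutatorElement_def]; decide
  · revert a; rw [hz]; decide
  refine Cfsg.Lib.Extraspecial.SympList.cons (Subgroup.mem_top _) (Subgroup.mem_top _)
    (by rw [hx, hy, hz, commutatorElement_def]; decide) ?_
  have hperp : Cfsg.Lib.Extraspecial.perp ⊤ x y = Subgroup.zpowers z := by
    refine le_antisymm (fun r hr => ?_) (Subgroup.zpowers_le.2 ?_)
    · obtain ⟨-, hrx, hry⟩ := Cfsg.Lib.Extraspecial.mem_perp.1 hr
      exact h1 r ((by decide : ∀ r : QuaternionGroup 2, r * QuaternionGroup.a 1 = QuaternionGroup.a 1 * r →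
        r * QuaternionGroup.xa 0 = QuaternionGroup.xa 0 * r → r = 1 ∨ r = QuaternionGroup.a 2) r hrx hry)
    · exact Cfsg.Lib.Extraspecial.mem_perp.2 ⟨Subgroup.mem_top _, (hcen x).symm, (hcen y).symm⟩
  rw [hperp]
  exact Cfsg.Lib.Extraspecial.SympList.nil

open Cfsg.Lib.Extraspecial in
/-- Two commuting dihedral pairs give a normal elementary abelian subgroup of order eight. -/
theorem no_two_pairs [Finite X] (h : Setup A) (s : Sq X) (hel : ∀ z ∈ Subgroup.center X, z * z = 1)
    (hcard : 2 ≤ Nat.card (Subgroup.center X)) {a c d : X} (ha : a * a = 1) (haZ : a ∉ Subgroup.center X)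
    (hc : c * c = 1) (hac : c * a = a * c) (hda : d * a = a * d) (hcd : c * d ≠ d * c) : False := by
  obtain ⟨E, hEn, hEc, hEe, hZE, haE, hEcard, hEmem⟩ :=
    extend (Subgroup.center X) hel ha haZ (fun n hn => Subgroup.mem_center_iff.1 hn a)
      (fun g => by rw [← commutatorElement_def]; exact s.comm_mem g a)
  haveI := hEn
  have hcE : c ∉ E := by
    intro hmem
    rcases hEmem c hmem with hm | hm
    · exact hcd (Subgroup.mem_center_iff.1 hm d).symm
    · have h1 := Subgroup.mem_center_iff.1 hm d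
      rw [← mul_assoc, mul_assoc c a d, ← hda, ← mul_assoc] at h1
      exact hcd (mul_right_cancel h1).symm
  have hcE' : ∀ n ∈ E, c * n = n * c := by
    intro n hn
    rcases hEmem n hn with hm | hm
    · exact Subgroup.mem_center_iff.1 hm c
    · have h1 := Subgroup.mem_center_iff.1 hm c
      rw [← mul_assoc, mul_assoc n a c, ← hac, ← mul_assoc] at h1
      exact mul_right_cancel h1
  obtain ⟨F, hFn, hFc, hFe, -, -, hFcard, -⟩ :=
    extend E hEe hc hcE hcE' (fun g => hZE (by rw [← commutatorElement_def]; exact s.comm_mem g c))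
  have := h.small F hFn hFc hFe
  omega

theorem orderTwo_count [Finite X] :
    Nat.card {x : X // orderOf x = 2} + 1 = Nat.card {x : X // x ^ 2 = 1} := by
  haveI : Fact (Nat.Prime 2) := ⟨Nat.prime_two⟩
  have he : {x : X | orderOf x = 2} = {x : X | x ^ 2 = 1} \ {1} := by
    ext x
    simp only [Set.mem_setOf_eq, Set.mem_sdiff, Set.mem_singleton_iff]
    exact orderOf_eq_prime_iff
  have h1 : {x : X | orderOf x = 2}.ncard + 1 = {x : X | x ^ 2 = 1}.ncard := by
    rw [he]; exact Set.ncard_diff_singleton_add_one (one_pow 2) (Set.toFinite _)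
  rwa [← Nat.card_coe_set_eq, ← Nat.card_coe_set_eq] at h1

/-- The centre has order two. -/
theorem conclusion_two [Finite X] (h : Setup A) (s : Sq X) (hZ2 : Nat.card (Subgroup.center X) = 2) :
    Conclusion X := by
  haveI : Fact (Nat.Prime 2) := ⟨Nat.prime_two⟩
  obtain ⟨hel, hgen⟩ := s.center_elementary h
  have hcomm : commutator X = Subgroup.center X := by
    refine Subgroup.eq_of_le_of_card_ge s.commutator_le ?_
    rw [hZ2]
    by_contra hlt
    have hbot : commutator X = ⊥ := by
      rw [← Subgroup.card_eq_one]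
      have := Nat.card_pos (α := commutator X)
      omega
    obtain ⟨x, y, hxy⟩ := s.nonab
    have := Subgroup.commutator_mem_commutator (Subgroup.mem_top x) (Subgroup.mem_top y)
    rw [← commutator_def, hbot, Subgroup.mem_bot, commutatorElement_eq_one_iff_mul_comm] at this
    exact hxy this
  have hex : Cfsg.IsExtraspecial 2 X := ⟨⟨h.two, s.frattini_eq h.two hgen, hcomm⟩, hZ2⟩
  obtain ⟨z, L, hz, hL, hlen, hcardX, hkind⟩ := Cfsg.Lib.Extraspecial.two_kinds hex
  have hnotcen : ∀ {a b : X}, ⁅a, b⁆ = z → a ∉ Subgroup.center X := fun {a b} hab ha =>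
    hz.ne_one (by
      rw [← hab, commutatorElement_eq_one_iff_mul_comm]
      exact (Subgroup.mem_center_iff.1 ha b).symm)
  have htwo : ∀ (R : Subgroup X) (t u : X × X) (L' : List (X × X)),
      Cfsg.Lib.Extraspecial.SympList z R (t :: u :: L') →
      Cfsg.Lib.Extraspecial.IsD t → Cfsg.Lib.Extraspecial.IsD u → False := by
    intro R t u L' hR ht hu
    obtain ⟨-, -, htz, hperp⟩ := hR.inv_cons
    obtain ⟨hu1, hu2, huz, -⟩ := hperp.inv_cons
    refine no_two_pairs h s hel hZ2.ge (a := t.1) (c := u.1) (d := u.2)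
      (by rw [← pow_two]; exact ht.1) (hnotcen htz) (by rw [← pow_two]; exact hu.1)
      (Cfsg.Lib.Extraspecial.mem_perp.1 hu1).2.1 (Cfsg.Lib.Extraspecial.mem_perp.1 hu2).2.1 fun e => ?_
    exact hz.ne_one (huz ▸ commutatorElement_eq_one_iff_mul_comm.2 e)
  rcases hkind with ⟨hD, -⟩ | ⟨⟨q, L', rfl, hQ, hD⟩, hcount⟩
  · exfalso
    rcases L with _ | ⟨⟨a, b⟩, L⟩
    · simp at hlen
    rcases L with _ | ⟨u, L⟩
    swap
    · exact htwo _ _ u L hL (hD _ (by simp)) (hD _ (by simp))
    obtain ⟨ha2, hb2⟩ := hD (a, b) (by simp)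
    dsimp only at ha2 hb2
    obtain ⟨-, -, hab, hperp⟩ := hL.inv_cons
    dsimp only at hab hperp
    have hperp' := hperp.inv_nil
    have hzc : ∀ w ∈ Subgroup.zpowers z, w = 1 ∨ w = z := fun w hw => by
      obtain ⟨k, hk, rfl⟩ := hz.exists_pow hw
      interval_cases k <;> simp
    have hab2 : (a * b) ^ 2 = z := by rw [hz.mul_sq, ha2, hb2, hz.symm hab, one_mul, one_mul]
    have hclass : ∀ x : X, x ^ 2 = z → x = a * b ∨ x = a * b * z := by
      intro x hx
      obtain ⟨i, j, hi, hj, m, hm, rfl⟩ :=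
        Cfsg.Lib.Extraspecial.decomp hz (Subgroup.mem_top a) (Subgroup.mem_top b) hab (Subgroup.mem_top x)
      obtain ⟨-, hma, hmb⟩ := Cfsg.Lib.Extraspecial.mem_perp.1 hm
      rw [hperp'] at hm
      have hm2 : m ^ 2 = 1 := by rcases hzc m hm with rfl | rfl <;> simp [hz.pow_z]
      rw [((hma.symm.pow_left i).mul_left (hmb.symm.pow_left j)).mul_pow, hm2, mul_one] at hx
      interval_cases i <;> interval_cases j <;> simp only [pow_zero, pow_one, one_mul, mul_one, one_pow] at hx
      · exact absurd hx.symm hz.ne_one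
      · exact absurd (hx.symm.trans hb2) hz.ne_one
      · exact absurd (hx.symm.trans ha2) hz.ne_one
      · rcases hzc m hm with rfl | rfl <;> simp
    have hZfix : ∀ φ : MulAut X, φ z = z := by
      intro φ
      have hle : (({1, z} : Set X)) = (Subgroup.center X : Set X) := by
        refine Set.eq_of_subset_of_ncard_le ?_ ?_ (Set.toFinite _)
        · rintro w (rfl | rfl)
          exacts [one_mem _, hz.central]
        · rw [Set.ncard_pair hz.ne_one.symm, ← Nat.card_coe_set_eq]; exact hZ2.le
      have hmem : φ z ∈ ({1, z} : Set X) := hle ▸ map_center φ hz.central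
      rcases hmem with e | e
      · exact absurd (φ.injective (e.trans (map_one φ).symm)) hz.ne_one
      · exact e
    have hcfix : ∀ φ ∈ A, φ (a * b) = a * b := by
      intro φ hφ
      rcases hclass (φ (a * b)) (by rw [← map_pow, hab2, hZfix]) with e | e
      · exact e
      · refine fix_of_sq h hφ ?_
        rw [e, map_mul, e, hZfix, mul_assoc, hz.sq_z, mul_one]
    have hcen : a * b ∈ Subgroup.center X := by
      refine le_center_of_fixed h (Subgroup.normalClosure {a * b}) (fun φ hφ w hw => ?_)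
        (Subgroup.subset_normalClosure rfl)
      induction hw using Subgroup.closure_induction with
      | mem u hu =>
        obtain ⟨v, hv, huv⟩ := Group.mem_conjugatesOfSet_iff.1 hu
        rw [Set.mem_singleton_iff] at hv
        subst hv
        obtain ⟨g, rfl⟩ := isConj_iff.1 huv
        rw [show g * (a * b) * g⁻¹ = ⁅g, a * b⁆ * (a * b) by rw [commutatorElement_def]; group, map_mul,
          hcfix φ hφ]
        congr 1
        rcases hzc _ (hz.comm g (a * b)) with e | e <;> rw [e]
        · exact map_one φ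
        · exact hZfix φ
      | one => exact map_one φ
      | mul u v _ _ iu iv => rw [map_mul, iu, iv]
      | inv u _ iu => rw [map_inv, iu]
    have h1 := Subgroup.mem_center_iff.1 hcen a
    rw [mul_assoc a b a] at h1
    exact hz.ne_one (hab ▸ commutatorElement_eq_one_iff_mul_comm.2 (mul_left_cancel h1))
  · rcases L' with _ | ⟨t, L'⟩
    · obtain ⟨z', q', hz', hL', hQ'⟩ := quaternion_setting
      exact Or.inl (Cfsg.Lib.Extraspecial.equiv_QQ hz hz' hL hL' rfl ⟨q, [], rfl, hQ, by simp⟩
        ⟨q', [], rfl, hQ', by simp⟩)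
    rcases L' with _ | ⟨u, L'⟩
    · refine Or.inr (Or.inr ⟨hex, by simpa using hcardX, ?_⟩)
      have := orderTwo_count (X := X)
      simp only [List.length_cons, List.length_nil] at hcount
      omega
    · obtain ⟨-, -, -, hperp⟩ := hL.inv_cons
      exact (htwo _ t u L' hperp (hD t (by simp)) (hD u (by simp))).elim

open scoped Classical in
/-- An odd group without fixed points acts transitively on a set of three or seven points. -/
theorem transitive_small {G W : Type*} [Group G] [MulAction G W] [Finite W] (hG : Odd (Nat.card G))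
    (S : Set W) (hS : Odd S.ncard) (hS8 : S.ncard < 9) (hinv : ∀ g : G, ∀ w ∈ S, g • w ∈ S)
    (hfree : ∀ w ∈ S, ∃ g : G, g • w ≠ w) {a b : W} (ha : a ∈ S) (hb : b ∈ S) : ∃ g : G, g • a = b := by
  have horb : ∀ w ∈ S, Odd (MulAction.orbit G w).ncard ∧ 3 ≤ (MulAction.orbit G w).ncard ∧
      MulAction.orbit G w ⊆ S := by
    intro w hw
    have hodd : Odd (MulAction.orbit G w).ncard := hG.of_dvd_nat <| by
      rw [← MulAction.index_stabilizer G w]; exact Subgroup.index_dvd_card _
    obtain ⟨g, hg⟩ := hfree w hw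
    have h2 : 1 < (MulAction.orbit G w).ncard :=
      (Set.one_lt_ncard (Set.toFinite _)).2 ⟨g • w, MulAction.mem_orbit w g, w, MulAction.mem_orbit_self w, hg⟩
    refine ⟨hodd, ?_, ?_⟩
    · obtain ⟨k, hk⟩ := hodd; omega
    · rintro _ ⟨g, rfl⟩; exact hinv g w hw
  have hdis : ∀ u v : W, v ∉ MulAction.orbit G u → Disjoint (MulAction.orbit G u) (MulAction.orbit G v) := by
    intro u v huv
    rw [Set.disjoint_left]
    intro w hwu hwv
    rw [← MulAction.orbit_eq_iff.2 hwu, MulAction.orbit_eq_iff.2 hwv] at huv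
    exact huv (MulAction.mem_orbit_self v)
  by_contra hne
  have hb' : b ∉ MulAction.orbit G a := hne
  obtain ⟨o1, c1, s1⟩ := horb a ha
  obtain ⟨o2, c2, s2⟩ := horb b hb
  have hunion := Set.ncard_union_eq (hdis a b hb') (Set.toFinite _) (Set.toFinite _)
  have hle := Set.ncard_le_ncard (Set.union_subset s1 s2) (Set.toFinite S)
  obtain ⟨w, hwS, hwU⟩ : ∃ w ∈ S, w ∉ MulAction.orbit G a ∪ MulAction.orbit G b := by
    by_contra hcon
    push Not at hcon
    rw [Set.Subset.antisymm hcon (Set.union_subset s1 s2), hunion] at hS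
    exact Nat.not_even_iff_odd.2 hS (o1.add_odd o2)
  simp only [Set.mem_union, not_or] at hwU
  obtain ⟨-, c3, s3⟩ := horb w hwS
  have hdis3 : Disjoint (MulAction.orbit G a ∪ MulAction.orbit G b) (MulAction.orbit G w) :=
    Set.disjoint_union_left.2 ⟨hdis a w hwU.1, hdis b w hwU.2⟩
  have := Set.ncard_union_eq hdis3 (Set.toFinite _) (Set.toFinite _)
  have := Set.ncard_le_ncard (Set.union_subset (Set.union_subset s1 s2) s3) (Set.toFinite S)
  omega

end Cfsg.Lib.TwoGroup.NoScn
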