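import Cfsg.Agent.Lib.TwoGroup.NoScn.Moved

/-!
# A self-centralizing moved abelian invariant subgroup
-/

set_option autoImplicit false

namespace Cfsg.Lib.TwoGroup.NoScn

open scoped commutatorElement

variable {X : Type*} [Group X] {A : Subgroup (MulAut X)}

namespace Ctx

variable {B O : Subgroup X} {ψ : MulAut X} {n : ℕ}

open Classical in
/-- The action of `x` on a square root of `o`, as a function of `o`. -/
noncomputable def eps (c : Ctx A B O ψ n) (x o : X) : X :=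
  if h : o ∈ O then ⁅x, (c.root h).choose⁆ else 1

theorem comm_root (c : Ctx A B O ψ n) {v : X} (hv : v ∈ B) (hv2 : v * v ∈ O) (x : X) : ⁅x, v⁆ ∈ O := by
  have hd : ⁅x, v⁆ ∈ B := by
    rw [show ⁅x, v⁆ = x * v * x⁻¹ * v⁻¹ from commutatorElement_def x v]
    exact mul_mem (c.normal.conj_mem v hv x) (inv_mem hv)
  refine (c.memO _).2 ⟨hd, ?_⟩
  have e := comm_mul_right x v v
  rw [commutatorElement_eq_one_iff_mul_comm.2 (c.comm_O hv2 x),
    c.comm v hv _ hd, mul_inv_cancel_right] at e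
  exact e.symm

theorem eps_eq (c : Ctx A B O ψ n) {v : X} (hv : v ∈ B) (hv2 : v * v ∈ O) (x : X) :
    c.eps x (v * v) = ⁅x, v⁆ := by
  rw [eps, dif_pos hv2]
  obtain ⟨hwB, hw⟩ := (c.root hv2).choose_spec
  set w := (c.root hv2).choose
  have ho : v⁻¹ * w ∈ O := (c.memO _).2 ⟨mul_mem (inv_mem hv) hwB, by
    calc v⁻¹ * w * (v⁻¹ * w) = v⁻¹ * (w * v⁻¹) * w := by group
      _ = v⁻¹ * (v⁻¹ * w) * w := by rw [c.comm w hwB _ (inv_mem hv)]
      _ = (v * v)⁻¹ * (w * w) := by group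
      _ = 1 := by rw [hw, inv_mul_cancel]⟩
  rw [show w = v * (v⁻¹ * w) by group, comm_mul_right,
    commutatorElement_eq_one_iff_mul_comm.2 (c.comm_O ho x), mul_one, mul_inv_cancel, mul_one]

theorem eps_mem (c : Ctx A B O ψ n) {o : X} (ho : o ∈ O) (x : X) : c.eps x o ∈ O := by
  obtain ⟨v, hv, rfl⟩ := c.root ho
  rw [c.eps_eq hv ho]; exact c.comm_root hv ho x

theorem eps_mul_left (c : Ctx A B O ψ n) {o : X} (ho : o ∈ O) (x y : X) :
    c.eps (x * y) o = c.eps x o * c.eps y o := by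
  obtain ⟨v, hv, rfl⟩ := c.root ho
  rw [c.eps_eq hv ho, c.eps_eq hv ho, c.eps_eq hv ho, comm_mul_left, c.conj_O (c.comm_root hv ho y)]
  exact c.comm_O (c.comm_root hv ho x) _

theorem eps_one_left (c : Ctx A B O ψ n) {o : X} (ho : o ∈ O) : c.eps 1 o = 1 := by
  obtain ⟨v, hv, rfl⟩ := c.root ho
  rw [c.eps_eq hv ho, commutatorElement_one_left]

theorem eps_mul_right (c : Ctx A B O ψ n) {o p : X} (ho : o ∈ O) (hp : p ∈ O) (x : X) :
    c.eps x (o * p) = c.eps x o * c.eps x p := by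
  obtain ⟨v, hv, rfl⟩ := c.root ho
  obtain ⟨w, hw, rfl⟩ := c.root hp
  have e : v * v * (w * w) = (v * w) * (v * w) := by
    rw [mul_assoc v w, ← mul_assoc w v w, c.comm w hw v hv]
    simp only [mul_assoc]
  have hvw : (v * w) * (v * w) ∈ O := e ▸ mul_mem ho hp
  rw [e, c.eps_eq (mul_mem hv hw) hvw, c.eps_eq hv ho, c.eps_eq hw hp, comm_mul_right,
    c.conj_O (c.comm_root hw hp x)]

theorem map_eps (c : Ctx A B O ψ n) {φ : MulAut X} (hφ : φ ∈ A) {o : X} (ho : o ∈ O) (x : X) :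
    φ (c.eps x o) = c.eps (φ x) (φ o) := by
  obtain ⟨v, hv, rfl⟩ := c.root ho
  rw [c.eps_eq hv ho, map_comm, map_mul]
  exact (c.eps_eq (c.inv φ hφ v hv) (by rw [← map_mul]; exact c.rot.inv φ hφ _ ho) _).symm

/-- The semilinearity: the average of `eps x` over the rotations vanishes. -/
theorem eps_sum [Finite X] (c : Ctx A B O ψ n) (h : Setup A) {a : X} (ha : a ∈ O) (x : X) :
    c.eps x a * ψ (c.eps x (ψ (ψ a))) * ψ (ψ (c.eps x (ψ a))) = 1 := by
  have hψ : ∀ o ∈ O, ψ o ∈ O := fun o ho => c.rot.inv ψ c.rot.mem o ho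
  have e0 : ∀ y, c.eps y a ∈ O := fun y => c.eps_mem ha y
  have e1 : ∀ y, ψ (c.eps y (ψ (ψ a))) ∈ O := fun y => hψ _ (c.eps_mem (hψ _ (hψ a ha)) y)
  have e2 : ∀ y, ψ (ψ (c.eps y (ψ a))) ∈ O := fun y => hψ _ (hψ _ (c.eps_mem (hψ a ha) y))
  let P : Type _ := O
  letI : CommGroup O := { (inferInstance : Group O) with mul_comm := fun p q => Subtype.ext (c.comm_O q.2 p) }
  let u₀ : X →* O :=
    { toFun := fun y => ⟨c.eps y a, e0 y⟩
      map_one' := Subtype.ext (c.eps_one_left ha)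
      map_mul' := fun y z => Subtype.ext (c.eps_mul_left ha y z) }
  let u₁ : X →* O :=
    { toFun := fun y => ⟨ψ (c.eps y (ψ (ψ a))), e1 y⟩
      map_one' := Subtype.ext (by simp [c.eps_one_left (hψ _ (hψ a ha))])
      map_mul' := fun y z => Subtype.ext (by
        show ψ (c.eps (y * z) _) = _
        rw [c.eps_mul_left (hψ _ (hψ a ha)), map_mul]; rfl) }
  let u₂ : X →* O :=
    { toFun := fun y => ⟨ψ (ψ (c.eps y (ψ a))), e2 y⟩
      map_one' := Subtype.ext (by simp [c.eps_one_left (hψ a ha)])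
      map_mul' := fun y z => Subtype.ext (by
        show ψ (ψ (c.eps (y * z) _)) = _
        rw [c.eps_mul_left (hψ a ha), map_mul, map_mul]; rfl) }
  refine congrArg Subtype.val (eq_one_of_invariant h (u₀ * u₁ * u₂) (fun φ hφ y => ?_) x)
  have hperm : (u₀ (φ y) = u₀ y ∧ u₁ (φ y) = u₁ y ∧ u₂ (φ y) = u₂ y) ∨
      (u₀ (φ y) = u₁ y ∧ u₁ (φ y) = u₂ y ∧ u₂ (φ y) = u₀ y) ∨
      (u₀ (φ y) = u₂ y ∧ u₁ (φ y) = u₀ y ∧ u₂ (φ y) = u₁ y) := by
    have hval : ∀ o ∈ O, ∀ y, φ (c.eps y o) = c.eps (φ y) (φ o) := fun o ho y => c.map_eps hφ ho y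
    have hc3 : ∀ o ∈ O, ψ (ψ (ψ o)) = o := fun o ho => c.rot.cube h ho
    rcases c.rot.trichotomy h hφ with t | t | t
    · have k : ∀ o ∈ O, c.eps (φ y) o = c.eps y o := fun o ho => by
        rw [← t _ (c.eps_mem ho y), hval o ho, t o ho]
      exact Or.inl ⟨Subtype.ext (k a ha),
        Subtype.ext (congrArg ψ (k _ (hψ _ (hψ a ha)))),
        Subtype.ext (congrArg (fun z => ψ (ψ z)) (k _ (hψ a ha)))⟩
    · have k : ∀ o ∈ O, c.eps (φ y) o = ψ (c.eps y (ψ (ψ o))) := fun o ho => by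
        rw [← t _ (c.eps_mem (hψ _ (hψ o ho)) y), hval _ (hψ _ (hψ o ho)), t _ (hψ _ (hψ o ho)), hc3 o ho]
      refine Or.inr (Or.inl ⟨Subtype.ext (k a ha), Subtype.ext ?_, Subtype.ext ?_⟩)
      · show ψ (c.eps (φ y) (ψ (ψ a))) = ψ (ψ (c.eps y (ψ a)))
        rw [k _ (hψ _ (hψ a ha)), hc3 _ (hψ a ha)]
      · show ψ (ψ (c.eps (φ y) (ψ a))) = c.eps y a
        rw [k _ (hψ a ha), hc3 a ha, hc3 _ (c.eps_mem ha y)]
    · have k : ∀ o ∈ O, c.eps (φ y) o = ψ (ψ (c.eps y (ψ o))) := fun o ho => by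
        rw [← t _ (c.eps_mem (hψ o ho) y), hval _ (hψ o ho), t _ (hψ o ho), hc3 o ho]
      refine Or.inr (Or.inr ⟨Subtype.ext (k a ha), Subtype.ext ?_, Subtype.ext ?_⟩)
      · show ψ (c.eps (φ y) (ψ (ψ a))) = c.eps y a
        rw [k _ (hψ _ (hψ a ha)), hc3 a ha, hc3 _ (c.eps_mem ha y)]
      · show ψ (ψ (c.eps (φ y) (ψ a))) = ψ (c.eps y (ψ (ψ a)))
        rw [k _ (hψ a ha), hc3 _ (c.eps_mem (hψ _ (hψ a ha)) y)]
  simp only [MonoidHom.mul_apply]
  rcases hperm with ⟨p, q, r⟩ | ⟨p, q, r⟩ | ⟨p, q, r⟩ <;> rw [p, q, r]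
  · rw [mul_comm (u₁ y * u₂ y), mul_assoc]
  · rw [mul_comm (u₂ y) (u₀ y), mul_assoc (u₀ y), mul_comm (u₂ y) (u₁ y), ← mul_assoc]

theorem eps_zero [Finite X] (c : Ctx A B O ψ n) (h : Setup A) {a : X} (ha : a ∈ O) (ha1 : a ≠ 1) {x : X}
    (hx : c.eps x a = 1) : ∀ o ∈ O, c.eps x o = 1 := by
  have hψ : ∀ o ∈ O, ψ o ∈ O := fun o ho => c.rot.inv ψ c.rot.mem o ho
  have hb : ψ a ∈ O := hψ a ha
  have hsum := c.eps_sum h ha x
  have hc : c.eps x (ψ (ψ a)) = c.eps x (ψ a) := by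
    rw [c.rot.psi_psi h ha, c.eps_mul_right ha hb, hx, one_mul]
  rw [hx, one_mul, hc] at hsum
  have ht : c.eps x (ψ a) = 1 := by
    have htO := c.eps_mem hb x
    rw [c.rot.psi_psi h htO] at hsum
    calc c.eps x (ψ a) = (ψ (c.eps x (ψ a)) * (c.eps x (ψ a) * ψ (c.eps x (ψ a)))) := by
          rw [c.comm_O (hψ _ htO) (c.eps x (ψ a)), ← mul_assoc, c.rot.sq _ (hψ _ htO), one_mul]
      _ = 1 := hsum
  intro o ho
  rcases c.rot.cases h ha ha1 ho with rfl | rfl | rfl | rfl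
  · have := c.eps_mul_right (one_mem O) (one_mem O) x
    rw [one_mul] at this
    exact (mul_eq_left.1 this.symm)
  · exact hx
  · exact ht
  · rw [hc, ht]

theorem eps_ne_id [Finite X] (c : Ctx A B O ψ n) (h : Setup A) {x : X} (hx : ∀ o ∈ O, c.eps x o = o) :
    False := by
  obtain ⟨a, ha, ham⟩ := c.rot.moves
  have hψ : ∀ o ∈ O, ψ o ∈ O := fun o ho => c.rot.inv ψ c.rot.mem o ho
  have hsum := c.eps_sum h ha x
  rw [hx a ha, hx _ (hψ _ (hψ a ha)), hx _ (hψ a ha), c.rot.cube h ha, c.rot.sq a ha, one_mul] at hsum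
  exact ham (by rw [hsum, map_one])

/-- When `B` has exponent four, all squares are central. -/
theorem sq_central [Finite X] (c : Ctx A B O ψ n) (h : Setup A)
    (hself : ∀ x, (∀ b ∈ B, x * b = b * x) → x ∈ B) (h4 : ∀ b ∈ B, b ^ 4 = 1) (x : X) :
    x * x ∈ Subgroup.center X := by
  have hsqO : ∀ b ∈ B, b * b ∈ O := fun b hb => (c.memO _).2 ⟨mul_mem hb hb, by
    rw [← h4 b hb]; simp [pow_succ, mul_assoc]⟩
  have key : ∀ y, (∀ o ∈ O, c.eps y o = 1) → y ∈ B := fun y hy => hself y fun b hb =>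
    commutatorElement_eq_one_iff_mul_comm.1 (by rw [← c.eps_eq hb (hsqO b hb)]; exact hy _ (hsqO b hb))
  by_cases hxB : x ∈ B
  · exact c.central (hsqO x hxB)
  have hx2 : x * x ∈ B := key _ fun o ho => by
    rw [c.eps_mul_left ho]; exact c.rot.sq _ (c.eps_mem ho x)
  by_cases hs : x * x * (x * x) = 1
  · exact c.central ((c.memO _).2 ⟨hx2, hs⟩)
  exfalso
  refine hxB (key x (c.eps_zero h (hsqO _ hx2) hs ?_))
  rw [c.eps_eq hx2 (hsqO _ hx2)]
  exact commutatorElement_eq_one_iff_mul_comm.2 (mul_assoc x x x).symm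

end Ctx

end Cfsg.Lib.TwoGroup.NoScn
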