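import Cfsg.Agent.Lib.TwoGroup.NoScn.CentreFour
import Cfsg.Agent.S0093

/-!
# Two-groups without normal abelian subgroups of rank three, with odd automorphisms: the classification
-/

set_option autoImplicit false

namespace Cfsg.Lib.TwoGroup.NoScn

open scoped commutatorElement

variable {X : Type*} [Group X] {A : Subgroup (MulAut X)}

theorem conclusion [Finite X] (h : Setup A) (hna : ∃ x y : X, x * y ≠ y * x) : Conclusion X := by
  haveI : Fact (Nat.Prime 2) := ⟨Nat.prime_two⟩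
  obtain ⟨C, hCchar, hCF, hCcomm, hCC⟩ := Cfsg.Agent.S0093.result (p := 2) h.two
  haveI := hCchar
  set B := Subgroup.centralizer (C : Set X) with hB
  have hmemB : ∀ x, x ∈ B ↔ ∀ c ∈ C, c * x = x * c := fun x => Subgroup.mem_centralizer_iff
  have hsqC : ∀ x ∈ C, x * x ∈ B := fun x hx => hCF ⟨(⟨x, hx⟩ : C) ^ 2,
    Cfsg.Lib.PGroup.pow_mem_frattini (h.two.to_subgroup C) _, by simp [pow_two]⟩
  have hcomC : ∀ x ∈ C, ∀ g : X, ⁅x, g⁆ ∈ B := fun x hx g =>
    (hCcomm (Subgroup.commutator_mem_commutator hx (Subgroup.mem_top g))).2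
  have hcomm : ∀ a ∈ B, ∀ b ∈ B, a * b = b * a := fun a ha b hb => (hmemB b).1 hb a (hCC ha)
  have hinvC : ∀ φ : MulAut X, ∀ x ∈ C, φ x ∈ C := fun φ x hx => by
    rw [← Subgroup.characteristic_iff_map_eq.1 hCchar φ]; exact ⟨x, hx, rfl⟩
  have hinvB : ∀ φ : MulAut X, ∀ b ∈ B, φ b ∈ B := by
    intro φ b hb
    rw [hmemB] at hb ⊢
    intro c hc
    have := congrArg φ (hb _ (hinvC φ⁻¹ c hc))
    rwa [map_mul, map_mul, MulAut.apply_inv_self] at this
  haveI hBn : B.Normal := ⟨fun b hb g => by simpa using hinvB (MulAut.conj g) b hb⟩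
  by_cases hBZ : B ≤ Subgroup.center X
  · refine conclusion_of_sq h ⟨fun x => hBZ ((hmemB _).2 fun c hc => ?_), hna⟩
    have hη : ∀ g : X, ⁅g, c⁆ ∈ Subgroup.center X := fun g => hBZ (by
      rw [← commutatorElement_inv]; exact inv_mem (hcomC c hc g))
    have h2 : ⁅x, c⁆ * ⁅x, c⁆ = 1 := by
      have e := comm_mul_right x c c
      rw [commutatorElement_eq_one_iff_mul_comm.2 (Subgroup.mem_center_iff.1 (hBZ (hsqC c hc)) x),
        Subgroup.mem_center_iff.1 (hη x) c, mul_inv_cancel_right] at e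
      exact e.symm
    have e := comm_sq x c
    rw [Subgroup.mem_center_iff.1 (hη x) x, mul_inv_cancel_right, h2] at e
    exact (commutatorElement_eq_one_iff_mul_comm.1 e).symm
  · have hmoved : ∃ φ ∈ A, ∃ b ∈ B, φ b ≠ b := by
      by_contra hcon
      push Not at hcon
      exact hBZ (le_center_of_fixed h B hcon)
    have hinvA : ∀ φ ∈ A, ∀ b ∈ B, φ b ∈ B := fun φ _ => hinvB φ
    have hne : ∃ b ∈ B, b * b ≠ 1 := by
      by_contra hcon
      push Not at hcon
      obtain ⟨ψ, -, hcen⟩ := exists_rot h B hcomm hinvA hmoved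
      exact hBZ fun b hb => hcen ⟨hb, hcon b hb⟩
    obtain ⟨O, ψ, n, c⟩ := exists_ctx h B hcomm hinvA hmoved hne
    have hCab := c.sq_stage h C (fun φ _ => hinvC φ) (fun x hx b hb => (hmemB b).1 hb x hx) hsqC hcomC
    have hCB : C ≤ B := fun x hx => (hmemB x).2 fun y hy => hCab y hy x hx
    have hself : ∀ x, (∀ b ∈ B, x * b = b * x) → x ∈ B := fun x hx =>
      (hmemB x).2 fun y hy => (hx y (hCB hy)).symm
    have hBtop : B ≠ ⊤ := fun e => by
      obtain ⟨x, y, hxy⟩ := hna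
      exact hxy (hcomm x (e ▸ Subgroup.mem_top x) y (e ▸ Subgroup.mem_top y))
    exact conclusion_of_sq h ⟨fun x => c.sq_central h hself (c.exponent_four h hself hBtop) x, hna⟩

end Cfsg.Lib.TwoGroup.NoScn
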