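import Cfsg.Agent.Lib.TwoGroup.NoScn.Basic
import Cfsg.Agent.Lib.PGroup.Basic

/-!
# An abelian invariant normal subgroup moved by the odd automorphisms
-/

set_option autoImplicit false

namespace Cfsg.Lib.TwoGroup.NoScn

open scoped commutatorElement

variable {X : Type*} [Group X] {A : Subgroup (MulAut X)}

/-- The elements of square one in a subgroup with commuting elements. -/
def omega (B : Subgroup X) (hc : ∀ a ∈ B, ∀ b ∈ B, a * b = b * a) : Subgroup X where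
  carrier := {x | x ∈ B ∧ x * x = 1}
  one_mem' := ⟨one_mem B, one_mul 1⟩
  mul_mem' := fun {a b} ha hb => ⟨mul_mem ha.1 hb.1, by
    rw [mul_assoc, ← mul_assoc b a b, hc b hb.1 a ha.1, mul_assoc a b b, hb.2, mul_one, ha.2]⟩
  inv_mem' := fun {a} ha => ⟨inv_mem ha.1, by rw [← mul_inv_rev, ha.2, inv_one]⟩

theorem comm_sq (a b : X) : ⁅a * a, b⁆ = a * ⁅a, b⁆ * a⁻¹ * ⁅a, b⁆ := by
  simp only [commutatorElement_def]; group

theorem comm_mul_right (a b c : X) : ⁅a, b * c⁆ = ⁅a, b⁆ * (b * ⁅a, c⁆ * b⁻¹) := by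
  simp only [commutatorElement_def]; group

theorem comm_mul_left (a b c : X) : ⁅a * b, c⁆ = (a * ⁅b, c⁆ * a⁻¹) * ⁅a, c⁆ := by
  simp only [commutatorElement_def]; group

theorem map_comm (φ : MulAut X) (a b : X) : φ ⁅a, b⁆ = ⁅φ a, φ b⁆ := by
  simp [commutatorElement_def]

/-- Automorphisms of odd order fixing the involutions of an abelian 2-subgroup fix it. -/
theorem fix_of_fix_omega [Finite X] (h : Setup A) {B : Subgroup X}
    (hc : ∀ a ∈ B, ∀ b ∈ B, a * b = b * a) {φ : MulAut X} (hφ : φ ∈ A) (hinv : ∀ b ∈ B, φ b ∈ B)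
    (hfix : ∀ o ∈ B, o * o = 1 → φ o = o) : ∀ b ∈ B, φ b = b := by
  suffices ∀ m, ∀ b ∈ B, orderOf b ≤ m → φ b = b from fun b hb => this _ b hb le_rfl
  intro m
  induction m using Nat.strong_induction_on with
  | _ m ih =>
  intro b hb hm
  by_cases hb1 : b = 1
  · rw [hb1, map_one]
  obtain ⟨k, hk⟩ := h.two b
  obtain ⟨j, -, hj⟩ := (Nat.dvd_prime_pow Nat.prime_two).1 (orderOf_dvd_of_pow_eq_one hk)
  have hj0 : j ≠ 0 := fun e => hb1 (orderOf_eq_one_iff.1 (by rw [hj, e, pow_zero]))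
  have hlt : orderOf (b * b) < m := by
    refine lt_of_lt_of_le ?_ hm
    rw [← pow_two, orderOf_pow' b two_ne_zero, hj, Nat.gcd_eq_right (dvd_pow_self 2 hj0)]
    exact Nat.div_lt_self (by positivity) one_lt_two
  have h2 : φ (b * b) = b * b := ih _ hlt (b * b) (mul_mem hb hb) le_rfl
  set o := b⁻¹ * φ b with ho
  have hoB : o ∈ B := mul_mem (inv_mem hb) (hinv b hb)
  have hoo : o * o = 1 := by
    rw [map_mul] at h2
    calc o * o = b⁻¹ * (φ b * b⁻¹) * φ b := by rw [ho]; group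
      _ = b⁻¹ * (b⁻¹ * φ b) * φ b := by rw [hc _ (hinv b hb) _ (inv_mem hb)]
      _ = (b * b)⁻¹ * (φ b * φ b) := by group
      _ = 1 := by rw [h2, inv_mul_cancel]
  have he : φ b = b * o := by rw [ho, mul_inv_cancel_left]
  refine fix_of_sq h hφ ?_
  rw [he, map_mul, hfix o hoB hoo, he, mul_assoc, hoo, mul_one]

/-- The data of a moved abelian invariant normal subgroup: its involutions form a central four-group
rotated by `ψ`, and `n` is half of its exponent. -/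
structure Ctx (A : Subgroup (MulAut X)) (B O : Subgroup X) (ψ : MulAut X) (n : ℕ) : Prop where
  normal : B.Normal
  comm : ∀ a ∈ B, ∀ b ∈ B, a * b = b * a
  inv : ∀ φ ∈ A, ∀ b ∈ B, φ b ∈ B
  memO : ∀ x, x ∈ O ↔ x ∈ B ∧ x * x = 1
  rot : Rot A O ψ
  central : O ≤ Subgroup.center X
  even : Even n
  top : ∀ b ∈ B, b ^ (2 * n) = 1
  surj : ∀ o ∈ O, ∃ b ∈ B, b ^ n = o
  ker : ∀ b ∈ B, b ^ n = 1 → ∃ w ∈ B, w * w = b

theorem exists_rot [Finite X] (h : Setup A) (B : Subgroup X) [hBn : B.Normal]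
    (hc : ∀ a ∈ B, ∀ b ∈ B, a * b = b * a) (hinv : ∀ φ ∈ A, ∀ b ∈ B, φ b ∈ B)
    (hmoved : ∃ φ ∈ A, ∃ b ∈ B, φ b ≠ b) :
    ∃ ψ : MulAut X, Rot A (omega B hc) ψ ∧ omega B hc ≤ Subgroup.center X := by
  haveI : Fact (Nat.Prime 2) := ⟨Nat.prime_two⟩
  set O := omega B hc with hO
  have hOinv : ∀ φ ∈ A, ∀ o ∈ O, φ o ∈ O := fun φ hφ o ho =>
    ⟨hinv φ hφ o ho.1, by rw [← map_mul, ho.2, map_one]⟩
  have hOn : O.Normal := ⟨fun o ho g => ⟨hBn.conj_mem o ho.1 g, by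
    rw [show g * o * g⁻¹ * (g * o * g⁻¹) = g * (o * o) * g⁻¹ by group, ho.2]; group⟩⟩
  have hlt : Nat.card O < 8 :=
    h.small O hOn ⟨⟨fun a b => Subtype.ext (hc a a.2.1 b b.2.1)⟩⟩ fun e he => he.2
  obtain ⟨φ, hφ, b, hb, hbne⟩ := hmoved
  obtain ⟨o, hoB, hoo, home⟩ : ∃ o ∈ B, o * o = 1 ∧ φ o ≠ o := by
    by_contra hcon
    push Not at hcon
    exact hbne (fix_of_fix_omega h hc hφ (hinv φ hφ) hcon b hb)
  have hoO : o ∈ O := ⟨hoB, hoo⟩
  have ho1 : o ≠ 1 := fun e => home (by rw [e, map_one])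
  have h3 : 3 ≤ Nat.card O := by
    classical
    have hne : φ o ≠ 1 := fun e => ho1 (φ.injective (e.trans (map_one φ).symm))
    have hle : (({1, o, φ o} : Finset X) : Set X) ⊆ (O : Set X) := by
      intro y hy
      simp only [Finset.coe_insert, Finset.coe_singleton, Set.mem_insert_iff, Set.mem_singleton_iff] at hy
      rcases hy with rfl | rfl | rfl
      exacts [one_mem O, hoO, hOinv φ hφ _ hoO]
    have := Set.ncard_le_ncard hle (Set.toFinite _)
    rw [Set.ncard_coe_finset, Finset.card_insert_of_notMem (by simp [ho1.symm, hne.symm]),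
      Finset.card_pair home.symm, ← Nat.card_coe_set_eq] at this
    exact this
  have hcard : Nat.card O = 4 := by
    obtain ⟨k, hk⟩ := IsPGroup.iff_card.1 (h.two.to_subgroup O)
    rw [hk] at hlt h3 ⊢
    have hk3 : k < 3 := (Nat.pow_lt_pow_iff_right one_lt_two).1 (by simpa using hlt)
    interval_cases k <;> simp_all
  have r : Rot A O φ := ⟨hφ, hcard, fun p hp => hp.2, hOinv, o, hoO, home⟩
  refine ⟨φ, r, ?_⟩
  have hbot : O ≠ ⊥ := fun e => ho1 (by rw [e] at hoO; exact hoO)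
  haveI := hOn
  obtain ⟨z₀, hz₀⟩ := (Subgroup.ne_bot_iff_exists_ne_one).1
    (Cfsg.Lib.PGroup.inf_center_ne_bot h.two hbot)
  have hz : (z₀ : X) ∈ O ⊓ Subgroup.center X := z₀.2
  have hz1 : (z₀ : X) ≠ 1 := fun e => hz₀ (Subtype.ext e)
  have hcinv : ∀ χ : MulAut X, ∀ c ∈ Subgroup.center X, χ c ∈ Subgroup.center X := fun χ c hc' => by
    rw [Subgroup.mem_center_iff] at hc' ⊢
    intro g
    have := congrArg χ (hc' (χ⁻¹ g))
    rwa [map_mul, map_mul, MulAut.apply_inv_self] at this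
  intro p hp
  rcases r.cases h hz.1 hz1 hp with rfl | rfl | rfl | rfl
  exacts [one_mem _, hz.2, hcinv _ _ hz.2, hcinv _ _ (hcinv _ _ hz.2)]

theorem exists_ctx [Finite X] (h : Setup A) (B : Subgroup X) [hBn : B.Normal]
    (hc : ∀ a ∈ B, ∀ b ∈ B, a * b = b * a) (hinv : ∀ φ ∈ A, ∀ b ∈ B, φ b ∈ B)
    (hmoved : ∃ φ ∈ A, ∃ b ∈ B, φ b ≠ b) (hne : ∃ b ∈ B, b * b ≠ 1) :
    ∃ (O : Subgroup X) (ψ : MulAut X) (n : ℕ), Ctx A B O ψ n := by
  classical
  haveI : Fact (Nat.Prime 2) := ⟨Nat.prime_two⟩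
  obtain ⟨ψ, r, hcen⟩ := exists_rot h B hc hinv hmoved
  set O := omega B hc with hO
  obtain ⟨m, hm⟩ := IsPGroup.iff_card.1 (h.two.to_subgroup B)
  have hex : ∃ e, ∀ b ∈ B, b ^ 2 ^ e = 1 := ⟨m, fun b hb => by
    have := pow_card_eq_one' (x := (⟨b, hb⟩ : B))
    rw [hm] at this
    simpa using congrArg Subtype.val this⟩
  set e := Nat.find hex with he
  have he2 : 2 ≤ e := by
    by_contra hlt
    obtain ⟨b, hb, hbb⟩ := hne
    have h1 := Nat.find_spec hex b hb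
    have : e = 0 ∨ e = 1 := by omega
    rcases this with h0 | h0 <;> rw [← he, h0] at h1
    · rw [pow_zero, pow_one] at h1; exact hbb (by rw [h1, one_mul])
    · rw [pow_one, pow_two] at h1; exact hbb h1
  obtain ⟨e', he'⟩ : ∃ e', e = e' + 1 := ⟨e - 1, by omega⟩
  set n := 2 ^ e' with hn
  have htop : ∀ b ∈ B, b ^ (2 * n) = 1 := fun b hb => by
    rw [hn, ← pow_succ', ← he']; exact Nat.find_spec hex b hb
  have hpiO : ∀ b ∈ B, b ^ n ∈ O := fun b hb => ⟨pow_mem hb n, by rw [← pow_add, ← two_mul]; exact htop b hb⟩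
  obtain ⟨b₀, hb₀, hb₀n⟩ : ∃ b ∈ B, b ^ n ≠ 1 := by
    by_contra hcon
    push Not at hcon
    exact Nat.find_min hex (show e' < e by omega) hcon
  have hsurj : ∀ o ∈ O, ∃ b ∈ B, b ^ n = o := by
    intro o ho
    rcases r.cases h (hpiO b₀ hb₀) hb₀n ho with rfl | rfl | rfl | rfl
    · exact ⟨1, one_mem B, one_pow n⟩
    · exact ⟨b₀, hb₀, rfl⟩
    · exact ⟨ψ b₀, hinv ψ r.mem b₀ hb₀, by rw [map_pow]⟩
    · exact ⟨ψ (ψ b₀), hinv ψ r.mem _ (hinv ψ r.mem b₀ hb₀), by rw [map_pow, map_pow]⟩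
  refine ⟨O, ψ, n, hBn, hc, hinv, fun x => Iff.rfl, r, hcen, ?_, htop, hsurj, fun b hb hbn => ?_⟩
  · rw [hn]; exact Nat.even_pow.2 ⟨even_two, by omega⟩
  letI : CommGroup B := { (inferInstance : Group B) with mul_comm := fun a b => Subtype.ext (hc a a.2 b b.2) }
  let s : B →* B := powMonoidHom 2
  let p : B →* B := powMonoidHom n
  have hks : Nat.card s.ker = 4 := by
    rw [← r.card]
    refine Nat.card_congr
      { toFun := fun x => ⟨((x : B) : X), (x : B).2, by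
          have := congrArg Subtype.val (x.2 : s (x : B) = 1); simpa [s, pow_two] using this⟩
        invFun := fun o => ⟨⟨o, o.2.1⟩, Subtype.ext (by simpa [s, pow_two] using o.2.2)⟩
        left_inv := fun _ => rfl
        right_inv := fun _ => rfl }
  have hrp : Nat.card p.range = 4 := by
    rw [← r.card]
    refine Nat.card_congr (Equiv.ofBijective (fun x : p.range => (⟨((x : B) : X), ?_⟩ : O)) ⟨?_, ?_⟩)
    · obtain ⟨y, hy⟩ := x.2
      rw [← hy]; exact hpiO y y.2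
    · intro x y hxy
      exact Subtype.ext (Subtype.ext (congrArg (fun z : O => (z : X)) hxy))
    · intro o
      obtain ⟨y, hy, hyo⟩ := hsurj o o.2
      exact ⟨⟨p ⟨y, hy⟩, ⟨y, hy⟩, rfl⟩, Subtype.ext hyo⟩
  have hle : s.range ≤ p.ker := by
    rintro _ ⟨y, rfl⟩
    refine Subtype.ext ?_
    show ((y : X) ^ 2) ^ n = 1
    rw [← pow_mul]; exact htop y y.2
  have hcards : Nat.card s.range = Nat.card p.ker := by
    have h1 := s.ker.card_mul_index
    have h2 := p.ker.card_mul_index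
    rw [Subgroup.index_ker] at h1 h2
    rw [hks] at h1; rw [hrp] at h2
    omega
  have := Subgroup.eq_of_le_of_card_ge hle hcards.ge
  obtain ⟨w, hw⟩ := (this ▸ (Subtype.ext hbn : p ⟨b, hb⟩ = 1) : (⟨b, hb⟩ : B) ∈ s.range)
  exact ⟨w, w.2, by simpa [s, pow_two] using congrArg Subtype.val hw⟩

namespace Ctx

variable {B O : Subgroup X} {ψ : MulAut X} {n : ℕ}

theorem le_B (c : Ctx A B O ψ n) {o : X} (ho : o ∈ O) : o ∈ B := ((c.memO o).1 ho).1

theorem pi_mem (c : Ctx A B O ψ n) {b : X} (hb : b ∈ B) : b ^ n ∈ O :=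
  (c.memO _).2 ⟨pow_mem hb n, by rw [← pow_add, ← two_mul]; exact c.top b hb⟩

theorem comm_O (c : Ctx A B O ψ n) {o : X} (ho : o ∈ O) (x : X) : x * o = o * x :=
  Subgroup.mem_center_iff.1 (c.central ho) x

theorem conj_O (c : Ctx A B O ψ n) {o : X} (ho : o ∈ O) (x : X) : x * o * x⁻¹ = o := by
  rw [c.comm_O ho, mul_inv_cancel_right]

theorem pow_O (c : Ctx A B O ψ n) {o : X} (ho : o ∈ O) : o ^ n = 1 := by
  obtain ⟨k, hk⟩ := c.even
  rw [hk, pow_add, ← (Commute.refl o).mul_pow, ((c.memO o).1 ho).2, one_pow]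

theorem root (c : Ctx A B O ψ n) {o : X} (ho : o ∈ O) : ∃ v ∈ B, v * v = o := by
  obtain ⟨k, hk⟩ := c.even
  obtain ⟨b, hb, rfl⟩ := c.surj o ho
  exact ⟨b ^ k, pow_mem hb k, by rw [hk, pow_add]⟩

theorem not_involution [Finite X] (c : Ctx A B O ψ n) (h : Setup A) {i : X} (hi : i * i = 1) (hiB : i ∉ B)
    (hconj : ∀ g : X, g * i * g⁻¹ * i⁻¹ ∈ O) : False := by
  haveI : O.Normal := ⟨fun o ho g => by rw [c.conj_O ho]; exact ho⟩
  obtain ⟨E, hEn, hEc, hEe, -, -, hcard, -⟩ :=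
    extend O (fun o ho => ((c.memO o).1 ho).2) hi (fun hiO => hiB (c.le_B hiO))
      (fun o ho => c.comm_O ho i) hconj
  have := h.small E hEn hEc hEe
  rw [c.rot.card] at hcard
  omega

/-- An invariant subgroup centralizing `B`, with squares and commutators in `B`, is abelian. -/
theorem sq_stage [Finite X] (c : Ctx A B O ψ n) (h : Setup A) (H : Subgroup X)
    (hinvH : ∀ φ ∈ A, ∀ x ∈ H, φ x ∈ H) (hcH : ∀ x ∈ H, ∀ b ∈ B, x * b = b * x)
    (hsqH : ∀ x ∈ H, x * x ∈ B) (hcomH : ∀ x ∈ H, ∀ g : X, ⁅x, g⁆ ∈ B) :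
    ∀ x ∈ H, ∀ y ∈ H, x * y = y * x := by
  have hO : ∀ x ∈ H, ∀ y ∈ H, ⁅x, y⁆ ∈ O := fun x hx y hy => (c.memO _).2 ⟨hcomH x hx y, by
    have e := comm_sq x y
    rw [commutatorElement_eq_one_iff_mul_comm.2 (hcH y hy _ (hsqH x hx)).symm,
      hcH x hx _ (hcomH x hx y), mul_inv_cancel_right] at e
    exact e.symm⟩
  have hfmul : ∀ x ∈ H, ∀ y ∈ H, ((x * y) * (x * y)) ^ n = (x * x) ^ n * (y * y) ^ n := by
    intro x hx y hy
    have ho := hO _ (inv_mem hx) _ hy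
    have e : (x * y) * (x * y) = (x * x) * (y * y) * ⁅x⁻¹, y⁆ := by
      calc (x * y) * (x * y) = (x * x) * ⁅x⁻¹, y⁆ * (y * y) := by simp only [commutatorElement_def]; group
        _ = _ := by rw [mul_assoc, ← c.comm_O ho (y * y), ← mul_assoc]
    rw [e, (show Commute (x * x * (y * y)) ⁅x⁻¹, y⁆ from c.comm_O ho _).mul_pow, c.pow_O ho, mul_one,
      (show Commute (x * x) (y * y) from c.comm _ (hsqH x hx) _ (hsqH y hy)).mul_pow]
  let f : H →* O :=
    { toFun := fun x => ⟨((x : X) * x) ^ n, c.pi_mem (hsqH x x.2)⟩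
      map_one' := Subtype.ext (by simp)
      map_mul' := fun x y => Subtype.ext (hfmul x x.2 y y.2) }
  have hker : ∀ m : H, f m = 1 → (m : X) ∈ B := by
    intro m hm
    obtain ⟨w, hw, hww⟩ := c.ker _ (hsqH m m.2) (congrArg Subtype.val hm)
    by_contra hmB
    have hcw : Commute (m : X) w⁻¹ := (show Commute (m : X) w from hcH m m.2 w hw).inv_right
    set i := (m : X) * w⁻¹ with hi
    have hiB : i ∉ B := fun e => hmB (by
      have := mul_mem e hw
      rwa [hi, inv_mul_cancel_right] at this)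
    have hii : i * i = 1 := by
      rw [hi, mul_assoc, ← mul_assoc w⁻¹, ← hcw.eq, mul_assoc (m : X), ← mul_assoc, ← mul_inv_rev, hww,
        mul_inv_cancel]
    refine c.not_involution h hii hiB fun g => ?_
    have hgi : g * i * g⁻¹ * i⁻¹ ∈ B := by
      have h1 : ⁅(m : X), g⁆ ∈ B := hcomH m m.2 g
      rw [show g * i * g⁻¹ * i⁻¹ = ⁅(m : X), g⁆⁻¹ * ((m : X) * ((g * w⁻¹ * g⁻¹) * w) * (m : X)⁻¹) by
        rw [hi]; simp only [commutatorElement_def]; group]
      exact mul_mem (inv_mem h1) (c.normal.conj_mem _ (mul_mem (c.normal.conj_mem _ (inv_mem hw) g) hw) m)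
    refine (c.memO _).2 ⟨hgi, ?_⟩
    set b := g * i * g⁻¹ * i⁻¹ with hb
    have h2 : (b * i) * (b * i) = 1 := by
      rw [show b * i = g * i * g⁻¹ by rw [hb]; group,
        show g * i * g⁻¹ * (g * i * g⁻¹) = g * (i * i) * g⁻¹ by group, hii]; group
    have hib : i * b = b * i := by
      rw [hi, mul_assoc, c.comm _ (inv_mem hw) b hgi, ← mul_assoc, hcH m m.2 b hgi, mul_assoc]
    rwa [mul_assoc, ← mul_assoc i b i, hib, mul_assoc b i i, hii, mul_one] at h2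
  intro x hx y hy
  by_contra hxy
  have hv1 : ⁅x, y⁆ ≠ 1 := fun e => hxy (commutatorElement_eq_one_iff_mul_comm.1 e)
  let v : H → H → X := fun a b => ⁅(a : X), (b : X)⁆
  have hfix := value_unique f v (by rw [c.rot.card])
    (fun a b d => by
      show ⁅((a : X) * b), (d : X)⁆ = _
      rw [comm_mul_left, c.conj_O (hO b b.2 d d.2)]; exact (c.comm_O (hO a a.2 d d.2) _))
    (fun a b d => by
      show ⁅(a : X), ((b : X) * d)⁆ = _
      rw [comm_mul_right, c.conj_O (hO a a.2 d d.2)])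
    (fun a => commutatorElement_self (a : X))
    (fun m a hm => commutatorElement_eq_one_iff_mul_comm.2 (hcH a a.2 m (hker m hm)).symm)
    (fun a b => ((c.memO _).1 (hO a a.2 b b.2)).2)
    (p := ⟨x, hx⟩) (q := ⟨y, hy⟩) hv1
    (c := ⟨ψ x, hinvH ψ c.rot.mem x hx⟩) (d := ⟨ψ y, hinvH ψ c.rot.mem y hy⟩)
    (by
      show ⁅ψ x, ψ y⁆ ≠ 1
      rw [← map_comm]
      exact fun e => hv1 (ψ.injective (e.trans (map_one ψ).symm)))
  exact hv1 (c.rot.fix_free h (hO x hx y hy) ((map_comm ψ x y).trans hfix))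

end Ctx

end Cfsg.Lib.TwoGroup.NoScn
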